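import Cfsg.Agent.Lib.ThreePrimes.Dual
import Cfsg.Agent.Lib.Solvable.MinimalNormal

/-!
# The case of a prime different from the characteristic of the minimal normal subgroup

`N` is minimal normal of exponent `l`, `S` a Sylow `s`-subgroup with `S N` normal and `S' ≤ N`.
If `s ≠ l` the group splits over `N` and the stabilisers of the non-trivial linear characters give
a partitioned module.
-/

set_option autoImplicit false

open scoped Classical commutatorElement

namespace CfsgLib.ThreePrimes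

open Cfsg CfsgLib.Char CfsgLib.CharNormal CfsgLib.ThreeDeg

universe u

variable {G : Type u} [Group G] [Finite G]

/-- Ito: a prime dividing no index of an abelian normal subgroup divides no degree. -/
theorem false_of_abelian_normal (A : Subgroup G) [A.Normal]
    (hA : ∀ a ∈ A, ∀ b ∈ A, a * b = b * a) {q : ℕ} (hq : ¬ q ∣ A.index)
    (hqd : ∃ χ : Cfsg.IrrCharacter G, q ∣ Cfsg.charDegree (χ : G → ℂ)) : False := by
  haveI := Fintype.ofFinite G
  obtain ⟨χ, hχ⟩ := hqd
  exact hq (hχ.trans (degree_dvd_index_abelian_normal A hA χ.2 (deg_cast χ.2)))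

/-- Elements acting trivially on the linear characters centralise an abelian subgroup. -/
theorem mem_centralizer_of_dualAct (N : Subgroup G) [N.Normal]
    (hab : ∀ a ∈ N, ∀ b ∈ N, a * b = b * a) {g : G} (hg : ∀ f : N →* ℂˣ, dualAct N g f = f) :
    g ∈ Subgroup.centralizer (N : Set G) := by
  refine Subgroup.mem_centralizer_iff.2 fun n hn => ?_
  have h1 : (MulAut.conjNormal g⁻¹ : MulAut N) ⟨n, hn⟩ * (⟨n, hn⟩ : N)⁻¹ = 1 := by
    refine eq_one_of_forall (fun a b => Subtype.ext (hab _ a.2 _ b.2)) fun f => ?_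
    rw [map_mul, ← dualAct_apply, hg f, map_inv, mul_inv_cancel]
  have h2 := congrArg Subtype.val (mul_inv_eq_one.1 h1)
  rw [MulAut.conjNormal_apply, inv_inv] at h2
  calc n * g = g * (g⁻¹ * n * g) := by group
    _ = g * n := by rw [h2]

theorem dual_exp (N : Subgroup G) {l : ℕ} (hexp : ∀ x ∈ N, x ^ l = 1) (f : N →* ℂˣ) :
    f ^ l = 1 := by
  refine MonoidHom.ext fun n => ?_
  rw [MonoidHom.pow_apply, ← map_pow, MonoidHom.one_apply,
    show n ^ l = 1 from Subtype.ext (hexp n n.2), map_one]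

theorem isIrr_linFun {M : Type u} [Group M] (f : M →* ℂˣ) :
    Cfsg.IsIrrCharacter M (linFun f) :=
  isIrrCharacter_units_hom f

theorem stab_dualAct (N : Subgroup G) [N.Normal] (H : Subgroup G) (f : N →* ℂˣ) :
    stab ((dualAct N).comp H.subtype) f = (inertia N (linFun f)).comap H.subtype :=
  Subgroup.ext fun h => (mem_inertia_linFun N f h).symm

set_option maxHeartbeats 400000 in
/-- The case `s ≠ l`. -/
theorem case_a [Group.IsSolvable G] (N : Subgroup G) [N.Normal] {l d : ℕ} [hl : Fact l.Prime]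
    (hab : ∀ a ∈ N, ∀ b ∈ N, a * b = b * a) (hexp : ∀ x ∈ N, x ^ l = 1)
    (hcard : Nat.card N = l ^ d) (hd : 0 < d)
    (hmin : ∀ M : Subgroup G, M.Normal → M ≤ N → M = ⊥ ∨ M = N)
    {s q r : ℕ} [hs : Fact s.Prime] [hq : Fact q.Prime] [hr : Fact r.Prime] (hqr : q ≠ r)
    (hsd : ∃ χ : Cfsg.IrrCharacter G, s ∣ Cfsg.charDegree (χ : G → ℂ))
    (hqd : ∃ χ : Cfsg.IrrCharacter G, q ∣ Cfsg.charDegree (χ : G → ℂ))
    (hrd : ∃ χ : Cfsg.IrrCharacter G, r ∣ Cfsg.charDegree (χ : G → ℂ))
    (hsq : NoEdge G s q) (hsr : NoEdge G s r) (hqr' : NoEdge G q r)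
    (S : Sylow s G) (hM : ((S : Subgroup G) ⊔ N).Normal)
    (hSS : ∀ a ∈ (S : Subgroup G), ∀ b ∈ (S : Subgroup G), ⁅a, b⁆ ∈ N) (hsl : s ≠ l) : False := by
  have hSN : ∀ x, x ∈ (S : Subgroup G) → x ∈ N → x = 1 := by
    intro x hx hx'
    obtain ⟨k, hk⟩ := IsPGroup.iff_card.1 S.2
    have hcop : (Nat.card (S : Subgroup G)).Coprime (Nat.card N) := by
      rw [hk, hcard]
      exact ((Nat.coprime_primes hs.out hl.out).2 hsl).pow _ _
    have h1 : x ∈ (S : Subgroup G) ⊓ N := ⟨hx, hx'⟩
    rwa [CfsgLib.Solvable.disjoint_of_coprime hcop, Subgroup.mem_bot] at h1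
  have hSab : ∀ a ∈ (S : Subgroup G), ∀ b ∈ (S : Subgroup G), a * b = b * a := fun a ha b hb =>
    commutatorElement_eq_one_iff_mul_comm.1 (hSN _ (by
      rw [commutatorElement_def]
      exact mul_mem (mul_mem (mul_mem ha hb) (inv_mem ha)) (inv_mem hb)) (hSS a ha b hb))
  -- the complement
  set H := Subgroup.normalizer ((S : Subgroup G) : Set G) with hHdef
  have hSH : (S : Subgroup G) ≤ H := Subgroup.le_normalizer
  have htop : N ⊔ H = ⊤ := by
    haveI := hM
    have hle : (S : Subgroup G) ≤ (S : Subgroup G) ⊔ N := le_sup_left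
    have h1 := Sylow.normalizer_sup_eq_top (S.subtype hle)
    rw [Sylow.coe_subtype, Subgroup.subgroupOf_map_subtype, inf_eq_left.2 hle] at h1
    refine top_le_iff.1 (h1.ge.trans ?_)
    exact sup_le le_sup_right (sup_le (hSH.trans le_sup_right) le_sup_left)
  have hmul : ∀ g : G, ∃ n ∈ N, ∃ h ∈ H, g = n * h := fun g =>
    CfsgLib.Solvable.exists_mul_of_mem_sup (fun h _ => Subgroup.normalizer_eq_top N ▸
      Subgroup.mem_top h) (htop ▸ Subgroup.mem_top g)
  have hNH : (N ⊓ H).Normal := by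
    refine ⟨fun x hx g => ?_⟩
    obtain ⟨n, hn, h, hh, rfl⟩ := hmul g
    have hy : h * x * h⁻¹ ∈ N ⊓ H :=
      ⟨‹N.Normal›.conj_mem x hx.1 h, (mul_mem (mul_mem hh hx.2) (inv_mem hh) : h * x * h⁻¹ ∈ H)⟩
    rw [show n * h * x * (n * h)⁻¹ = n * (h * x * h⁻¹) * n⁻¹ by group, hab n hn _ hy.1,
      mul_inv_cancel_right]
    exact hy
  have hNH1 : N ⊓ H = ⊥ := by
    rcases hmin _ hNH inf_le_left with h | h
    · exact h
    · exfalso
      have hN : N ≤ H := h ▸ inf_le_right
      have hSn : (S : Subgroup G).Normal :=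
        Subgroup.normalizer_eq_top_iff.1 (top_le_iff.1 (htop.ge.trans (sup_le hN le_rfl)))
      exact false_of_abelian_normal _ hSab S.not_dvd_index hsd
  have hKH : Subgroup.IsComplement' N H :=
    Subgroup.isComplement'_of_disjoint_and_mul_eq_univ (disjoint_iff.2 hNH1)
      (Set.eq_univ_iff_forall.2 fun g => by
        obtain ⟨n, hn, h, hh, rfl⟩ := hmul g
        exact Set.mul_mem_mul hn hh)
  obtain ⟨π, hπ, hπ1⟩ := exists_projection hKH
  have hπs : Function.Surjective π := fun h => ⟨h, hπ h⟩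
  have hπN : ∀ t : G, t * (π t : G)⁻¹ ∈ N := fun t =>
    (hπ1 _).1 (by rw [map_mul, map_inv, hπ, mul_inv_cancel])
  set ψ := (dualAct N).comp H.subtype with hψ
  haveI : Finite (N →* ℂˣ) := finite_dual
  have hirr : ∀ U : Subgroup (N →* ℂˣ), (∀ g, ∀ v ∈ U, ψ g v ∈ U) → U = ⊥ ∨ U = ⊤ :=
    fun U hU => dual_irreducible N hab hmin H
      (fun g => by
        obtain ⟨n, hn, h, hh, e⟩ := hmul g
        exact ⟨n, Subgroup.mem_centralizer_iff.2 fun m hm => hab m hm n hn, h, hh, e⟩)
      U fun h hh f hf => hU ⟨h, hh⟩ f hf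
  have hext : ∀ f : N →* ℂˣ, Extends N (linFun f) := by
    intro f
    let F : inertia N (linFun f) →* ℂˣ :=
      { toFun := fun t => f ⟨(t : G) * (π t : G)⁻¹, hπN t⟩
        map_one' := by
          rw [show (⟨((1 : inertia N (linFun f)) : G) * (π (1 : inertia N (linFun f)) : G)⁻¹,
            hπN _⟩ : N) = 1 from Subtype.ext (by simp), map_one]
        map_mul' := fun a b => by
          have hT : (π a : G) ∈ inertia N (linFun f) := by
            have := mul_mem (inv_mem (le_inertia N (isClassFunction_of_isIrr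
              (isIrr_linFun f)) (hπN a))) a.2
            simpa using this
          set m : N := ⟨(b : G) * (π b : G)⁻¹, hπN b⟩ with hm
          have h1 : f ⟨(π a : G) * m * (π a : G)⁻¹,
              ‹N.Normal›.conj_mem _ m.2 _⟩ = f m :=
            Units.ext (congrFun ((mem_inertia N).1 hT) m)
          rw [← h1, ← map_mul]
          congr 1
          apply Subtype.ext
          simp [hm, map_mul, mul_assoc] }
    refine ⟨linFun F, (isCharacter_linFun F).1, fun n hn => ?_⟩
    show ((f ⟨(n : G) * (π n : G)⁻¹, _⟩ : ℂˣ) : ℂ) = (f n : ℂ)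
    congr 2
    exact Subtype.ext (by simp [(hπ1 n).2 n.2])
  -- the stabilisers
  have hSt : ∀ {t : ℕ} [Fact t.Prime], NoEdge G s t → ∀ f : N →* ℂˣ, f ≠ 1 →
      StabSylow t (stab ψ f) := by
    intro t _ hst f hf
    rw [hψ, stab_dualAct]
    refine stabSylow_of_noEdge hKH (isIrr_linFun f) (hext f) hst
      (dvd_mul_of_dvd_left ?_ _)
    rw [← stab_dualAct]
    by_contra hnd
    obtain ⟨S', hS'⟩ := CfsgLib.CharNormal.exists_sylow_le_of_not_dvd_index hnd
    set SH : Sylow s H := S.subtype hSH with hSHdef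
    haveI hn : (SH : Subgroup H).Normal :=
      (Subgroup.normal_subgroupOf_iff_le_normalizer hSH).2 le_rfl
    letI := Sylow.unique_of_normal SH hn
    rw [Subsingleton.elim S' SH] at hS'
    have hfix : f ∈ fixSub ψ (SH : Subgroup H) := hS'
    rcases hirr _ (fun g v hv => fixSub_invariant ψ
      (Subgroup.normalizer_eq_top (SH : Subgroup H) ▸ Subgroup.mem_top g) hv) with h | h
    · rw [h, Subgroup.mem_bot] at hfix
      exact hf hfix
    · have hNS : N ≤ H := by
        intro n hn'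
        refine Subgroup.centralizer_le_normalizer _ (Subgroup.mem_centralizer_iff.2 fun x hx => ?_)
        refine (Subgroup.mem_centralizer_iff.1 (mem_centralizer_of_dualAct N hab (g := x)
          fun f' => ?_) n hn').symm
        have h2 : f' ∈ fixSub ψ (SH : Subgroup H) := h ▸ Subgroup.mem_top _
        exact h2 ⟨x, hSH hx⟩ hx
      have h3 : N = ⊥ := eq_bot_iff.2 ((le_inf le_rfl hNS).trans hNH1.le)
      rw [h3, Subgroup.card_bot] at hcard
      exact (Nat.one_lt_pow hd.ne' hl.out.one_lt).ne hcard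
  -- a prime not dividing the image
  have hdvd : ∀ {t : ℕ} [Fact t.Prime], NoEdge G s t →
      (∃ χ : Cfsg.IrrCharacter G, t ∣ Cfsg.charDegree (χ : G → ℂ)) → t ∣ Nat.card ψ.range := by
    intro t _ hst htd
    by_contra hnd
    have hker := sylow_le_ker (q := t) ψ hnd
    obtain ⟨Q⟩ := (inferInstance : Nonempty (Sylow t H))
    obtain ⟨f, hf⟩ : ∃ f : N →* ℂˣ, f ≠ 1 := by
      haveI : Nontrivial (N →* ℂˣ) := Finite.one_lt_card_iff_nontrivial.1 (by
        rw [card_dual_of_comm fun a b => Subtype.ext (hab _ a.2 _ b.2), hcard]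
        exact Nat.one_lt_pow hd.ne' hl.out.one_lt)
      exact exists_ne 1
    obtain ⟨hQn, hQc⟩ := normal_of_le_ker ψ hker (hSt hst f hf) Q
    haveI := hQn
    have hcen : ∀ g : G, π g ∈ (Q : Subgroup H) → (π g : G) ∈ Subgroup.centralizer (N : Set G) :=
      fun g hg => mem_centralizer_of_dualAct N hab fun f' =>
        DFunLike.congr_fun (MonoidHom.mem_ker.1 (hker Q hg)) f'
    refine false_of_abelian_normal ((Q : Subgroup H).comap π) (fun a ha b hb => ?_) ?_ htd
    · have ea : a = a * (π a : G)⁻¹ * (π a : G) := by rw [inv_mul_cancel_right]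
      have eb : b = b * (π b : G)⁻¹ * (π b : G) := by rw [inv_mul_cancel_right]
      have c1 : Commute (a * (π a : G)⁻¹) (b * (π b : G)⁻¹) := hab _ (hπN a) _ (hπN b)
      have c2 : Commute (a * (π a : G)⁻¹) (π b : G) :=
        Subgroup.mem_centralizer_iff.1 (hcen b hb) _ (hπN a)
      have c3 : Commute (π a : G) (b * (π b : G)⁻¹) :=
        (Subgroup.mem_centralizer_iff.1 (hcen a ha) _ (hπN b)).symm
      have c4 : Commute (π a : G) (π b : G) := congrArg Subtype.val (hQc _ ha _ hb)
      rw [ea, eb]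
      exact ((c1.mul_right c2).mul_left (c3.mul_right c4)).eq
    · rw [Subgroup.index_comap_of_surjective _ hπs]
      exact Q.not_dvd_index
  exact range_false (l := l) (d := d) ψ (dual_exp N hexp)
    (by rw [card_dual_of_comm fun a b => Subtype.ext (hab _ a.2 _ b.2), hcard]) hd hirr
    (hdvd hsq hqd) (hdvd hsr hrd) (hSt hsq) (hSt hsr) (hqr'.of_surjective π hπs) hqr

end CfsgLib.ThreePrimes
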