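import Cfsg.Agent.Lib.ThreePrimes.Radical
import Cfsg.Agent.Lib.CharNormal.InvariantAbove
import Cfsg.Agent.Lib.Cores.Basic

/-!
# The case of the characteristic prime

`N` is minimal normal of exponent `l` and the Sylow `l`-subgroup `S` is normal with `S' ≤ N`.
-/

set_option autoImplicit false

open scoped Classical commutatorElement

namespace CfsgLib.ThreePrimes

open Cfsg CfsgLib.Char CfsgLib.CharNormal CfsgLib.ThreeDeg

universe u

variable {G : Type u} [Group G] [Finite G]

omit [Finite G] in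
/-- Two identities with the same count force equal exponents. -/
theorem exponent_eq {l n w d c e : ℕ} [hl : Fact l.Prime] (hn : Nat.Coprime l n)
    (hwd : w < d) (hV : n * (l ^ w - 1) = l ^ d - 1) (hc : 0 < c) (he : 0 < e)
    (hD : n * (l ^ c - 1) = l ^ e - 1) : e = d := by
  have h2 : 2 ≤ l := hl.out.two_le
  have hpd : ∀ k, 1 ≤ l ^ k := fun k => Nat.one_le_pow _ _ hl.out.pos
  have hadd : ∀ a b, n * (l ^ a - 1) = l ^ b - 1 → n * l ^ a + 1 = n + l ^ b := by
    intro a b h
    obtain ⟨k, hk⟩ := Nat.exists_eq_add_of_le (hpd a)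
    obtain ⟨j, hj⟩ := Nat.exists_eq_add_of_le (hpd b)
    rw [hk, hj, Nat.add_sub_cancel_left, Nat.add_sub_cancel_left] at h
    rw [hk, hj, ← h]
    ring
  have hV' := hadd w d hV
  have hD' := hadd c e hD
  have hne : n ≠ 1 := fun h1 => by
    rw [h1] at hV'
    have := Nat.pow_lt_pow_right hl.out.one_lt hwd
    omega
  have hce : c < e := by
    by_contra hle
    push Not at hle
    have h3 : l ^ e ≤ l ^ c := Nat.pow_le_pow_right hl.out.pos hle
    have h4 : 1 < l ^ e := Nat.one_lt_pow he.ne' hl.out.one_lt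
    rcases Nat.eq_zero_or_pos n with h0 | h0
    · rw [h0] at hD'
      omega
    · have : 2 ≤ n := by omega
      nlinarith
  -- the exact power of `l` in `n - 1`
  have key : ∀ a b a', a < b → a < a' → n * l ^ a + 1 = n + l ^ b →
      l ^ a' ∣ n * l ^ a - l ^ b → False := by
    intro a b a' hab haa _ hd
    rw [show l ^ b = l ^ (b - a) * l ^ a by rw [← pow_add, Nat.sub_add_cancel hab.le], ← Nat.sub_mul]
      at hd
    have h5 : l ^ (a + 1) ∣ (n - l ^ (b - a)) * l ^ a := (pow_dvd_pow l haa).trans hd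
    rw [pow_succ', Nat.mul_dvd_mul_iff_right (Nat.pow_pos hl.out.pos)] at h5
    have h6 : l ^ (b - a) ≤ n := by
      rcases Nat.eq_zero_or_pos n with h0 | h0
      · exact absurd h0 (fun h0 => by simp [h0] at hn; exact hl.out.ne_one hn)
      · by_contra hlt
        push Not at hlt
        have := Nat.mul_lt_mul_of_pos_right hlt (Nat.pow_pos hl.out.pos (n := a))
        rw [← pow_add, Nat.sub_add_cancel hab.le] at this
        omega
    have h7 : l ∣ n := by
      have := Nat.dvd_add h5 (dvd_pow_self l (show b - a ≠ 0 by omega))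
      rwa [Nat.sub_add_cancel h6] at this
    exact hl.out.ne_one (Nat.eq_one_of_dvd_coprimes hn dvd_rfl h7)
  have hsame : n * l ^ w - l ^ d = n * l ^ c - l ^ e := by omega
  have hwc : w = c := by
    rcases lt_trichotomy w c with h | h | h
    · exact (key w d c hwd h hV' (hsame ▸ Nat.dvd_sub (dvd_mul_left _ _)
        (pow_dvd_pow l hce.le))).elim
    · exact h
    · exact (key c e w hce h hD' (hsame.symm ▸ Nat.dvd_sub (dvd_mul_left _ _)
        (pow_dvd_pow l hwd.le))).elim
  subst hwc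
  refine Nat.pow_right_injective h2 ?_
  show l ^ e = l ^ d
  omega

set_option maxHeartbeats 800000 in
/-- The case `s = l`. -/
theorem case_b [Group.IsSolvable G] (N : Subgroup G) [N.Normal] {l d : ℕ} [hl : Fact l.Prime]
    (hab : ∀ a ∈ N, ∀ b ∈ N, a * b = b * a) (hexp : ∀ x ∈ N, x ^ l = 1)
    (hcard : Nat.card N = l ^ d) (hd : 0 < d)
    (hmin : ∀ M : Subgroup G, M.Normal → M ≤ N → M = ⊥ ∨ M = N)
    {q r : ℕ} [hq : Fact q.Prime] [hr : Fact r.Prime] (hlq : l ≠ q) (hlr : l ≠ r) (hqr : q ≠ r)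
    (hld : ∃ χ : Cfsg.IrrCharacter G, l ∣ Cfsg.charDegree (χ : G → ℂ))
    (hqd : ∃ χ : Cfsg.IrrCharacter G, q ∣ Cfsg.charDegree (χ : G → ℂ))
    (hrd : ∃ χ : Cfsg.IrrCharacter G, r ∣ Cfsg.charDegree (χ : G → ℂ))
    (hlq' : NoEdge G l q) (hlr' : NoEdge G l r) (hqr' : NoEdge G q r)
    (S : Sylow l G) (hM : ((S : Subgroup G) ⊔ N).Normal)
    (hSS : ∀ a ∈ (S : Subgroup G), ∀ b ∈ (S : Subgroup G), ⁅a, b⁆ ∈ N) : False := by
  have hNp : IsPGroup l N := IsPGroup.of_card hcard
  have hNS : N ≤ (S : Subgroup G) :=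
    (CfsgLib.Cores.le_pCore hNp).trans (CfsgLib.Cores.pCore_le_sylow S)
  haveI hSn : (S : Subgroup G).Normal := by rwa [sup_eq_left.2 hNS] at hM
  have hNbot : N ≠ ⊥ := fun h => by
    rw [h, Subgroup.card_bot] at hcard
    exact (Nat.one_lt_pow hd.ne' hl.out.one_lt).ne hcard
  -- the derived subgroup
  have hSN : ⁅(S : Subgroup G), (S : Subgroup G)⁆ = N := by
    rcases hmin ⁅(S : Subgroup G), (S : Subgroup G)⁆ inferInstance
      (Subgroup.commutator_le.2 hSS) with h | h
    · refine (false_of_abelian_normal (S : Subgroup G) (fun a ha b hb =>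
        commutatorElement_eq_one_iff_mul_comm.1 ?_) S.not_dvd_index hld).elim
      rw [← Subgroup.mem_bot, ← h]
      exact Subgroup.commutator_mem_commutator ha hb
    · exact h
  -- `N` is central in `S`
  have hcen : ∀ x ∈ (S : Subgroup G), ∀ n ∈ N, n * x = x * n := by
    set Z := N ⊓ Subgroup.centralizer ((S : Subgroup G) : Set G) with hZdef
    rcases hmin Z inferInstance inf_le_left with h | h
    · exfalso
      have h1 := card_modEq_fixed (p := l) S.2
        ((MulAut.conjNormal (H := N)).comp (S : Subgroup G).subtype) ⊤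
        fun _ _ _ => Subgroup.mem_top _
      have h2 : Nat.card {u : N // u ∈ (⊤ : Subgroup N) ∧
          ∀ g, ((MulAut.conjNormal (H := N)).comp (S : Subgroup G).subtype) g u = u} = 1 := by
        refine Nat.card_eq_one_iff_unique.2 ⟨⟨fun a b => ?_⟩,
          ⟨⟨1, Subgroup.mem_top _, fun g => map_one _⟩⟩⟩
        have key : ∀ c : {u : N // u ∈ (⊤ : Subgroup N) ∧
            ∀ g, ((MulAut.conjNormal (H := N)).comp (S : Subgroup G).subtype) g u = u},
            ((c.1 : N) : G) = 1 := fun c => by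
          rw [← Subgroup.mem_bot, ← h]
          refine ⟨c.1.2, Subgroup.mem_centralizer_iff.2 fun x hx => ?_⟩
          have := congrArg Subtype.val (c.2.2 ⟨x, hx⟩)
          rw [MonoidHom.comp_apply, MulAut.conjNormal_apply, mul_inv_eq_iff_eq_mul] at this
          exact this
        exact Subtype.ext (Subtype.ext ((key a).trans (key b).symm))
      rw [Subgroup.card_top, hcard, h2] at h1
      have h3 : l ∣ l ^ d := dvd_pow_self l hd.ne'
      exact hl.out.ne_one (Nat.dvd_one.1 ((h1.dvd_iff dvd_rfl).1 h3))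
    · intro x hx n hn
      exact (Subgroup.mem_centralizer_iff.1 (h ▸ hn : n ∈ Z).2 x hx).symm
  have hNcom : ∀ n : N, (⟨n, hNS n.2⟩ : (S : Subgroup G)) ∈ commutator (S : Subgroup G) := by
    intro n
    have h1 : (n : G) ∈ (commutator (S : Subgroup G)).map (S : Subgroup G).subtype := by
      rw [Subgroup.map_subtype_commutator, hSN]
      exact n.2
    obtain ⟨y, hy, e⟩ := Subgroup.mem_map.1 h1
    rwa [show (⟨n, hNS n.2⟩ : (S : Subgroup G)) = y from Subtype.ext e.symm]
  -- the complement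
  obtain ⟨H, hKH⟩ := Subgroup.exists_right_complement'_of_coprime (N := (S : Subgroup G))
    S.card_coprime_index
  have hH : Nat.card H = (S : Subgroup G).index := hKH.symm.index_eq_card.symm
  have hlH : ¬ l ∣ Nat.card H := hH ▸ S.not_dvd_index
  obtain ⟨π, hπ, hπ1⟩ := exists_projection hKH
  have hπs : Function.Surjective π := fun h => ⟨h, hπ h⟩
  have hdecomp := exists_mul_of_isComplement' hKH
  set ψN := (dualAct N).comp H.subtype with hψN
  set ψS := (dualAct (S : Subgroup G)).comp H.subtype with hψS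
  haveI : Finite (N →* ℂˣ) := finite_dual
  haveI : Finite ((S : Subgroup G) →* ℂˣ) := finite_dual
  haveI := Fintype.ofFinite (S : Subgroup G)
  have hcardV : Nat.card (N →* ℂˣ) = l ^ d := by
    rw [card_dual_of_comm fun a b => Subtype.ext (hab _ a.2 _ b.2), hcard]
  have hirr : ∀ U : Subgroup (N →* ℂˣ), (∀ g, ∀ v ∈ U, ψN g v ∈ U) → U = ⊥ ∨ U = ⊤ :=
    fun U hU => dual_irreducible N hab hmin H
      (fun g => by
        obtain ⟨x, hx, h, hh, e⟩ := hdecomp g
        exact ⟨x, Subgroup.mem_centralizer_iff.2 fun n hn => hcen x hx n hn, h, hh, e⟩)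
      U fun h hh f hf => hU ⟨h, hh⟩ f hf
  -- characters over the characters of `N`
  have hover : ∀ f : N →* ℂˣ, f ≠ 1 → ∃ θ : Cfsg.IrrCharacter (S : Subgroup G),
      ((θ : ↥(S : Subgroup G) → ℂ) 1 ≠ 1 ∧ ∀ n : N, (θ : ↥(S : Subgroup G) → ℂ) ⟨n, hNS n.2⟩ =
        (θ : ↥(S : Subgroup G) → ℂ) 1 * (f n : ℂ)) ∧
      stab ψN f = (inertia (S : Subgroup G) (θ : ↥(S : Subgroup G) → ℂ)).comap H.subtype := by
    intro f hf
    set N' := N.subgroupOf (S : Subgroup G) with hN'
    haveI := Fintype.ofFinite N'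
    let e := Subgroup.subgroupOfEquivOfLe hNS
    let f' : Cfsg.IrrCharacter N' := ⟨linFun (f.comp e.toMonoidHom), isIrr_linFun _⟩
    let U := stab ψN f
    let φ : U →* MulAut (S : Subgroup G) :=
      (MulAut.conjNormal (H := (S : Subgroup G))).comp (H.subtype.comp U.subtype)
    have hst : ∀ u, ∀ n ∈ N', φ u n ∈ N' := fun u n hn => by
      show ((MulAut.conjNormal ((u : H) : G) : MulAut (S : Subgroup G)) n : G) ∈ N
      rw [MulAut.conjNormal_apply]
      exact ‹N.Normal›.conj_mem _ hn _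
    have hinv : IsInvariant (restrAut φ N' hst) f' := by
      intro u n
      have h1 := DFunLike.congr_fun (mem_stab.1 (inv_mem u.2)) (e n)
      rw [hψN, MonoidHom.comp_apply, Subgroup.coe_subtype, dualAct_apply, Subgroup.coe_inv,
        inv_inv] at h1
      show ((f (e (restrAut φ N' hst u n)) : ℂˣ) : ℂ) = (f (e n) : ℂ)
      rw [← h1]
      congr 2
    obtain ⟨θ, hθ, h0⟩ := exists_invariant_over φ inferInstance (by
      refine Nat.Coprime.coprime_dvd_right ?_ S.card_coprime_index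
      rw [← hH]
      exact Subgroup.card_subgroup_dvd_card U) N' hst f' hinv
    have hres := res_eq_smul_of_invariant N' θ.2 f'.2 (fun x => funext fun n => congrArg
      (f' : N' → ℂ) (Subtype.ext (Subtype.ext (by
        show ((x : (S : Subgroup G)) : G) * ((n : (S : Subgroup G)) : G) * (x : G)⁻¹ = _
        rw [← hcen x x.2 _ (Subgroup.mem_subgroupOf.1 n.2), mul_inv_cancel_right])))) h0
    have h1 : Cfsg.classInner (fun n : N' => (θ : ↥(S : Subgroup G) → ℂ) n) (f' : N' → ℂ) =
        (θ : ↥(S : Subgroup G) → ℂ) 1 := by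
      have := congrFun hres 1
      simp only [Pi.smul_apply, smul_eq_mul, Subgroup.coe_one, f', linFun_apply, map_one,
        Units.val_one, mul_one] at this
      exact this.symm
    have hθf : ∀ n : N, (θ : ↥(S : Subgroup G) → ℂ) ⟨n, hNS n.2⟩ =
        (θ : ↥(S : Subgroup G) → ℂ) 1 * (f n : ℂ) := fun n => by
      have := congrFun hres ⟨⟨n, hNS n.2⟩, n.2⟩
      rw [Pi.smul_apply, smul_eq_mul, h1] at this
      exact this
    refine ⟨θ, ⟨fun hlin => hf (MonoidHom.ext fun n => Units.ext ?_), hθf⟩, ?_⟩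
    · have h2 := Abelianization.commutator_subset_ker
        (linearHom (isCharacter_of_isIrr θ.2) hlin) (hNcom n)
      rw [MonoidHom.mem_ker, Units.ext_iff, linearHom_apply, hθf n, hlin, one_mul] at h2
      simpa using h2
    · ext h
      constructor
      · intro hh
        refine (mem_inertia _).2 (funext fun x => ?_)
        have := hθ ⟨h, hh⟩ x
        rw [conjFun_eq_comp]
        exact this
      · intro hh
        show ψN h f = f
        rw [hψN, MonoidHom.comp_apply, ← mem_inertia_linFun, mem_inertia]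
        funext n
        have h2 := congrFun ((mem_inertia _).1 hh) ⟨n, hNS n.2⟩
        rw [conjFun_apply, hθf n,
          show (⟨H.subtype h * (n : G) * (H.subtype h)⁻¹, hSn.conj_mem _ (hNS n.2) _⟩ :
            (S : Subgroup G)) =
            ⟨((⟨H.subtype h * n * (H.subtype h)⁻¹, ‹N.Normal›.conj_mem _ n.2 _⟩ : N) : G),
              hNS (‹N.Normal›.conj_mem _ n.2 _)⟩ from rfl, hθf] at h2
        exact mul_left_cancel₀ (irr_one_ne_zero θ.2) h2
  -- stabilisers of the non-linear characters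
  have hext : ∀ {θ : ↥(S : Subgroup G) → ℂ}, Cfsg.IsIrrCharacter (S : Subgroup G) θ →
      Extends (S : Subgroup G) θ := fun h => extends_of_hall _ h S.card_coprime_index
  have hStT : ∀ {t : ℕ} [Fact t.Prime], NoEdge G l t →
      ∀ θ : Cfsg.IrrCharacter (S : Subgroup G), (θ : ↥(S : Subgroup G) → ℂ) 1 ≠ 1 →
      StabSylow t ((inertia (S : Subgroup G) (θ : ↥(S : Subgroup G) → ℂ)).comap H.subtype) := by
    intro t _ ht θ hθ
    refine stabSylow_of_noEdge hKH θ.2 (hext θ.2) ht (dvd_mul_of_dvd_right ?_ _)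
    obtain ⟨k, hk⟩ := IsPGroup.iff_card.1 S.2
    obtain ⟨j, -, hj⟩ := (Nat.dvd_prime_pow hl.out).1 (hk ▸ degree_dvd_card θ.2 (deg_cast θ.2))
    rcases Nat.eq_zero_or_pos j with rfl | hj0
    · exact absurd (by rw [deg_cast θ.2, hj, pow_zero, Nat.cast_one]) hθ
    · exact hj ▸ dvd_pow_self l hj0.ne'
  have hStV : ∀ {t : ℕ} [Fact t.Prime], NoEdge G l t → ∀ f : N →* ℂˣ, f ≠ 1 →
      StabSylow t (stab ψN f) := by
    intro t _ ht f hf
    obtain ⟨θ, ⟨h1, -⟩, h2⟩ := hover f hf
    exact h2 ▸ hStT ht θ h1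
  -- a prime not dividing the image
  have hmoves : ∀ {t : ℕ} [Fact t.Prime], l ≠ t → NoEdge G l t →
      (∃ χ : Cfsg.IrrCharacter G, t ∣ Cfsg.charDegree (χ : G → ℂ)) → ¬ t ∣ Nat.card ψN.range →
      ∀ Q : Sylow t H, (Q : Subgroup H).Normal ∧
        (∀ h ∈ (Q : Subgroup H), (h : G) ∈ Subgroup.centralizer (N : Set G)) ∧
        fixSub ψS (Q : Subgroup H) ≠ ⊤ ∧
        ∀ μ ∉ fixSub ψS (Q : Subgroup H), t ∣ (stab ψS μ).index := by
    intro t _ hlt ht htd hnd Q
    have hker := sylow_le_ker (q := t) ψN hnd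
    obtain ⟨f, hf⟩ : ∃ f : N →* ℂˣ, f ≠ 1 := by
      haveI : Nontrivial (N →* ℂˣ) := Finite.one_lt_card_iff_nontrivial.1
        (hcardV ▸ Nat.one_lt_pow hd.ne' hl.out.one_lt)
      exact exists_ne 1
    obtain ⟨hQn, hQc⟩ := normal_of_le_ker ψN hker (hStV ht f hf) Q
    haveI := hQn
    have hQN : ∀ h ∈ (Q : Subgroup H), (h : G) ∈ Subgroup.centralizer (N : Set G) := fun h hh =>
      mem_centralizer_of_dualAct N hab fun f' =>
        DFunLike.congr_fun (MonoidHom.mem_ker.1 (hker Q hh)) f'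
    refine ⟨hQn, hQN, fun htop => ?_, fun μ hμ => ?_⟩
    · -- then the Sylow subgroup centralises `S`
      have hQS : ∀ h ∈ (Q : Subgroup H), ∀ x ∈ (S : Subgroup G), (h : G) * x = x * h := by
        intro h hh x hx
        set σ : MulAut (S : Subgroup G) := MulAut.conjNormal (h : G)⁻¹ with hσ
        set c := σ ⟨x, hx⟩ * (⟨x, hx⟩ : (S : Subgroup G))⁻¹ with hc
        have hcN : (c : G) ∈ N := by
          have h1 : c ∈ commutator (S : Subgroup G) := mem_commutator_of_forall fun μ => by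
            have h2 : μ (σ ⟨x, hx⟩) = μ ⟨x, hx⟩ :=
              DFunLike.congr_fun ((htop ▸ Subgroup.mem_top μ : μ ∈ fixSub ψS (Q : Subgroup H)) h hh)
                ⟨x, hx⟩
            rw [hc, map_mul, h2, map_inv, mul_inv_cancel]
          rw [← hSN, ← Subgroup.map_subtype_commutator]
          exact Subgroup.mem_map.2 ⟨c, h1, rfl⟩
        have hσc : σ c = c := Subtype.ext (by
          rw [hσ, MulAut.conjNormal_apply, inv_inv, mul_assoc,
            Subgroup.mem_centralizer_iff.1 (hQN h hh) _ hcN, inv_mul_cancel_left])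
        have hpow : ∀ k : ℕ, (σ ^ k) ⟨x, hx⟩ = c ^ k * ⟨x, hx⟩ := by
          intro k
          induction k with
          | zero => simp
          | succ k ih =>
            rw [pow_succ', MulAut.mul_apply, ih, map_mul, map_pow, hσc, pow_succ, mul_assoc]
            congr 1
            rw [hc, inv_mul_cancel_right]
        have hk : σ ^ orderOf h = 1 := by
          rw [hσ, ← map_pow, inv_pow, ← Subgroup.coe_pow, pow_orderOf_eq_one, Subgroup.coe_one,
            inv_one, map_one]
        have h1 := hpow (orderOf h)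
        rw [hk, MulAut.one_apply, right_eq_mul] at h1
        have h2 : c ^ l = 1 := Subtype.ext (by rw [Subgroup.coe_pow, hexp _ hcN]; rfl)
        have h3 : c = 1 := orderOf_eq_one_iff.1 (Nat.eq_one_of_dvd_coprimes
          ((hl.out.coprime_iff_not_dvd.2 fun hd' => hlH (hd'.trans (orderOf_dvd_natCard h))))
          (orderOf_dvd_of_pow_eq_one h2) (orderOf_dvd_of_pow_eq_one h1))
        have h4 := congrArg Subtype.val (mul_inv_eq_one.1 (show σ ⟨x, hx⟩ * (⟨x, hx⟩ : (S : Subgroup G))⁻¹ = 1 from h3))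
        rw [hσ, MulAut.conjNormal_apply, inv_inv] at h4
        calc (h : G) * x = (h : G) * ((h : G)⁻¹ * x * h) := by rw [h4]
          _ = x * h := by group
      set A := (Q : Subgroup H).map H.subtype with hA
      haveI : A.Normal := by
        refine ⟨fun a ha g => ?_⟩
        obtain ⟨y, hy, rfl⟩ := Subgroup.mem_map.1 ha
        obtain ⟨x, hx, h, hh, rfl⟩ := hdecomp g
        have hy' : (⟨h, hh⟩ : H) * y * (⟨h, hh⟩ : H)⁻¹ ∈ (Q : Subgroup H) := hQn.conj_mem y hy _
        refine Subgroup.mem_map.2 ⟨_, hy', ?_⟩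
        have := hQS _ hy' x hx
        simp only [Subgroup.coe_subtype, Subgroup.coe_mul, Subgroup.coe_inv] at this ⊢
        rw [show x * h * (y : G) * (x * h)⁻¹ = x * (h * y * h⁻¹) * x⁻¹ by group, ← this,
          mul_inv_cancel_right]
      refine false_of_abelian_normal A (fun a ha b hb => ?_) ?_ htd
      · obtain ⟨a', ha', rfl⟩ := Subgroup.mem_map.1 ha
        obtain ⟨b', hb', rfl⟩ := Subgroup.mem_map.1 hb
        exact congrArg Subtype.val (hQc _ ha' _ hb')
      · rw [hA, Subgroup.index_map_subtype, hKH.index_eq_card]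
        intro hdv
        obtain ⟨k, hk⟩ := IsPGroup.iff_card.1 S.2
        rcases (Fact.out : t.Prime).dvd_mul.1 hdv with h | h
        · exact Q.not_dvd_index h
        · rw [hk] at h
          exact hlt ((Nat.prime_dvd_prime_iff_eq (Fact.out : t.Prime) hl.out).1
            ((Fact.out : t.Prime).dvd_of_dvd_pow h)).symm
    · by_contra hnd'
      obtain ⟨Q', hQ'⟩ := CfsgLib.CharNormal.exists_sylow_le_of_not_dvd_index hnd'
      letI := Sylow.unique_of_normal Q hQn
      rw [Subsingleton.elim Q' Q] at hQ'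
      exact hμ hQ'
  -- degrees over linear characters of `S`
  have hμdeg : ∀ μ : (S : Subgroup G) →* ℂˣ,
      stab ψS μ = (inertia (S : Subgroup G) (linFun μ)).comap H.subtype ∧
      ∃ χ : Cfsg.IrrCharacter G, (stab ψS μ).index ∣ Cfsg.charDegree (χ : G → ℂ) := by
    intro μ
    refine ⟨stab_dualAct _ _ μ, ?_⟩
    haveI := Fintype.ofFinite G
    obtain ⟨χ, hχ⟩ := exists_degree_over (S : Subgroup G) ⟨linFun μ, isIrr_linFun μ⟩
    refine ⟨χ, ?_⟩
    rw [hψS, stab_dualAct, (stabiliser_equiv hKH _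
      (le_inertia _ (isClassFunction_of_isIrr (isIrr_linFun μ)))).1]
    exact (dvd_mul_right _ _).trans hχ
  -- one prime divides the image, the other does not
  have hone : ∀ {a b : ℕ} [Fact a.Prime] [Fact b.Prime], l ≠ a → NoEdge G l a → NoEdge G l b →
      NoEdge G a b → (∃ χ : Cfsg.IrrCharacter G, a ∣ Cfsg.charDegree (χ : G → ℂ)) →
      ¬ a ∣ Nat.card ψN.range → b ∣ Nat.card ψN.range → False := by
    intro a b _ _ hla hla' hlb' hab' had hna hb
    obtain ⟨Q⟩ := (inferInstance : Nonempty (Sylow a H))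
    obtain ⟨hQn, hQN, hA, hAidx⟩ := hmoves hla hla' had hna Q
    haveI := hQn
    set A := fixSub ψS (Q : Subgroup H) with hAdef
    have hVp : IsPGroup l (N →* ℂˣ) := fun f => ⟨1, by rw [pow_one, dual_exp N hexp f]⟩
    have hDp : IsPGroup l ((S : Subgroup G) →* ℂˣ) := fun μ => by
      obtain ⟨k, hk⟩ := IsPGroup.iff_card.1 S.2
      refine ⟨k, MonoidHom.ext fun x => ?_⟩
      rw [MonoidHom.pow_apply, ← map_pow, ← hk, pow_card_eq_one', map_one, MonoidHom.one_apply]
    obtain ⟨d', w, hd', hw0, hVidx, hVn, hVF⟩ := fix_count (r := b) ψN hVp hlH ⊥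
      (fun g v hv => by rw [Subgroup.mem_bot.1 hv, map_one]; exact Subgroup.one_mem _)
      (fun h => by
        have := Subgroup.index_top (G := N →* ℂˣ)
        rw [← h, Subgroup.index_bot, hcardV] at this
        exact (Nat.one_lt_pow hd.ne' hl.out.one_lt).ne' this)
      (fun v hv => (hStV hlb' v fun h => hv (Subgroup.mem_bot.2 h)).existsUnique)
    rw [Subgroup.index_bot, hcardV] at hVidx
    obtain rfl : d = d' := Nat.pow_right_injective hl.out.two_le hVidx
    obtain ⟨R₀⟩ := (inferInstance : Nonempty (Sylow b H))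
    have hwd : w < d := by
      have h1 := (hVF R₀).2
      rw [Subgroup.card_bot, one_mul] at h1
      refine (Nat.pow_lt_pow_iff_right hl.out.one_lt).1 ?_
      rw [← h1, ← hcardV]
      refine lt_of_le_of_ne (Subgroup.card_le_card_group _) fun e => not_sylow_le_ker ψN hb R₀ ?_
      intro g hg
      refine MonoidHom.mem_ker.2 (MulEquiv.ext fun v => ?_)
      exact (Subgroup.eq_top_of_card_eq _ e ▸ Subgroup.mem_top v :
        v ∈ fixSub ψN (R₀ : Subgroup H)) g hg
    obtain ⟨e, c, he, hc, hidx, hDn, -⟩ := fix_count (r := b) ψS hDp hlH A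
      (fun g μ hμ => fixSub_invariant ψS
        (Subgroup.normalizer_eq_top (Q : Subgroup H) ▸ Subgroup.mem_top g) hμ) hA
      (fun μ hμ => StabSylow.existsUnique (by
        rw [(hμdeg μ).1]
        exact stabSylow_of_noEdge hKH (isIrr_linFun μ) (hext (isIrr_linFun μ)) hab'
          (dvd_mul_of_dvd_left ((hμdeg μ).1 ▸ hAidx μ hμ) _)))
    have hed := exponent_eq (l := l) (hl.out.coprime_iff_not_dvd.2 fun hd' =>
      hlH (hd'.trans (R₀.card_dvd_index.trans (Subgroup.index_dvd_card _)))) hwd hVn hc he hDn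
    refine absurd (card_dual_lt_index hSS hcen hNS (Q : Subgroup H) hQN ?_ hA (fun θ hθ => ?_)
      fun f hf => ?_) ?_
    · obtain ⟨k, hk⟩ := IsPGroup.iff_card.1 Q.2
      obtain ⟨j, hj⟩ := IsPGroup.iff_card.1 S.2
      rw [hk, hj]
      exact ((Nat.coprime_primes (Fact.out : a.Prime) hl.out).2 hla.symm).pow _ _
    · obtain ⟨Q₀, hQ₀, -⟩ := hStT hla' θ hθ
      letI := Sylow.unique_of_normal Q hQn
      rwa [Subsingleton.elim Q₀ Q] at hQ₀
    · obtain ⟨θ, hθ, -⟩ := hover f hf
      exact ⟨θ, hθ⟩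
    · rw [hidx, hcardV, hed]
      exact lt_irrefl _
  by_cases hq1 : q ∣ Nat.card ψN.range <;> by_cases hr1 : r ∣ Nat.card ψN.range
  · exact range_false (l := l) (d := d) ψN (dual_exp N hexp) hcardV hd hirr hq1 hr1 (hStV hlq')
      (hStV hlr') (hqr'.of_surjective π hπs) hqr
  · exact hone hlr hlr' hlq' hqr'.symm hrd hr1 hq1
  · exact hone hlq hlq' hlr' hqr' hqd hq1 hr1
  · obtain ⟨Q⟩ := (inferInstance : Nonempty (Sylow q H))
    obtain ⟨R⟩ := (inferInstance : Nonempty (Sylow r H))
    obtain ⟨-, -, hQ, hQi⟩ := hmoves hlq hlq' hqd hq1 Q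
    obtain ⟨-, -, hR, hRi⟩ := hmoves hlr hlr' hrd hr1 R
    obtain ⟨μ, hμQ, hμR⟩ : ∃ μ, μ ∉ fixSub ψS (Q : Subgroup H) ∧
        μ ∉ fixSub ψS (R : Subgroup H) := by
      by_contra hcon
      push Not at hcon
      obtain ⟨x, hx⟩ : ∃ x, x ∉ fixSub ψS (Q : Subgroup H) := by
        by_contra h; push Not at h; exact hQ (eq_top_iff.2 fun x _ => h x)
      obtain ⟨y, hy⟩ : ∃ y, y ∉ fixSub ψS (R : Subgroup H) := by
        by_contra h; push Not at h; exact hR (eq_top_iff.2 fun x _ => h x)
      have hxR := hcon x hx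
      have hyQ : y ∈ fixSub ψS (Q : Subgroup H) := by
        by_contra h; exact hy (hcon y h)
      have hxy : x * y ∉ fixSub ψS (Q : Subgroup H) := fun h =>
        hx ((Subgroup.mul_mem_cancel_right _ hyQ).1 h)
      exact hy ((Subgroup.mul_mem_cancel_left _ hxR).1 (hcon _ hxy))
    obtain ⟨-, χ, hχ⟩ := hμdeg μ
    exact hqr' χ ⟨(hQi μ hμQ).trans hχ, (hRi μ hμR).trans hχ⟩

end CfsgLib.ThreePrimes
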