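import Cfsg.Agent.Lib.ThreePrimes.Degree
import Cfsg.Agent.Lib.OddChar.Inertia
import Cfsg.Agent.Lib.BlockArith.ItoConverse
import Cfsg.Agent.Lib.CharNormal.SylowNormalizesSylow

/-!
# Degrees over an extendible character of a normal subgroup with a complement

If an irreducible character of a complemented normal subgroup extends to its inertia group then the
degrees of the stabiliser in the complement multiply up; so if some prime divides the degrees over
it, every prime not linked to that one has a normal abelian Sylow subgroup in the stabiliser.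
-/

set_option autoImplicit false

open scoped Classical

namespace CfsgLib.ThreePrimes

open Cfsg CfsgLib.Char CfsgLib.CharNormal CfsgLib.ThreeDeg

universe u

/-- No degree is divisible by both primes. -/
def NoEdge (G : Type u) [Group G] (a b : ℕ) : Prop :=
  ∀ χ : Cfsg.IrrCharacter G,
    ¬ (a ∣ Cfsg.charDegree (χ : G → ℂ) ∧ b ∣ Cfsg.charDegree (χ : G → ℂ))

theorem NoEdge.symm {G : Type u} [Group G] {a b : ℕ} (h : NoEdge G a b) : NoEdge G b a :=
  fun χ hd => h χ ⟨hd.2, hd.1⟩

/-- Irreducible characters lift along surjections, with the same degree. -/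
theorem exists_degree_comp_surjective {G : Type u} [Group G] [Finite G] {X : Type u} [Group X]
    (f : G →* X) (hf : Function.Surjective f) (ψ : Cfsg.IrrCharacter X) :
    ∃ χ : Cfsg.IrrCharacter G,
      Cfsg.charDegree (χ : G → ℂ) = Cfsg.charDegree (ψ : X → ℂ) := by
  haveI : Finite X := Finite.of_surjective f hf
  haveI := Fintype.ofFinite G
  haveI := Fintype.ofFinite X
  haveI := Fintype.ofFinite (G ⧸ f.ker)
  let e := QuotientGroup.quotientKerEquivOfSurjective f hf
  exact ⟨⟨_, isIrr_comp_mk' f.ker (isIrr_comp_mulEquiv ψ.2 e)⟩, deg_of_eq (by simp)⟩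

theorem NoEdge.of_surjective {G : Type u} [Group G] [Finite G] {X : Type u} [Group X]
    (f : G →* X) (hf : Function.Surjective f) {a b : ℕ} (h : NoEdge G a b) : NoEdge X a b := by
  intro ψ hd
  obtain ⟨χ, hχ⟩ := exists_degree_comp_surjective f hf ψ
  exact h χ (hχ.symm ▸ hd)

variable {G : Type u} [Group G] [Finite G]

/-- An invariant character of a normal Hall subgroup extends. -/
theorem extends_coprime (N : Subgroup G) [hN : N.Normal] {θ : N → ℂ}
    (hθ : Cfsg.IsIrrCharacter N θ)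
    (hinv : ∀ (g : G) (n : N), θ ⟨g * n * g⁻¹, hN.conj_mem (n : G) n.2 g⟩ = θ n)
    (hcop : (Nat.card N).Coprime N.index) :
    ∃ χ : G → ℂ, Cfsg.IsIrrCharacter G χ ∧ ∀ n : N, χ n = θ n := by
  haveI := Fintype.ofFinite G
  haveI := Fintype.ofFinite N
  obtain ⟨k, ρ, hirr, hρ⟩ := id hθ
  have hdet : Cfsg.detChar θ = linFun (detHom ρ) := by
    rw [← hρ]; exact detChar_eq_detHom ρ
  have hord : orderOf (Cfsg.detChar θ) ∣ Nat.card N := by
    rw [hdet, orderOf_linFun]
    exact orderOf_dvd_of_pow_eq_one (MonoidHom.ext fun n => by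
      rw [MonoidHom.pow_apply, ← map_pow, pow_card_eq_one', map_one]; rfl)
  obtain ⟨f, ⟨hf, -⟩, -⟩ := canonical_linear_extension N (lam := Cfsg.detChar θ)
    (hdet ▸ isCharacter_linFun _) (det_invariant N (isCharacter_of_isIrr hθ) hinv)
    (hcop.symm.coprime_dvd_right hord)
  have hd := deg_cast hθ
  exact (extend_iff_det N hθ hinv hd (hcop.symm.coprime_dvd_right (degree_dvd_card hθ hd))).mpr
    ⟨linFun f, (isCharacter_linFun f).1, (isCharacter_linFun f).2, hf⟩

/-- A character extending to its inertia group. -/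
def Extends (K : Subgroup G) [K.Normal] (θ : K → ℂ) : Prop :=
  ∃ ψ : inertia K θ → ℂ, Cfsg.IsCharacter (inertia K θ) ψ ∧
    ∀ (n : K) (hn : (n : G) ∈ inertia K θ), ψ ⟨n, hn⟩ = θ n

/-- An irreducible character of a normal Hall subgroup extends to its inertia group. -/
theorem extends_of_hall (K : Subgroup G) [hK : K.Normal] {θ : K → ℂ}
    (hθ : Cfsg.IsIrrCharacter K θ) (hcop : (Nat.card K).Coprime K.index) : Extends K θ := by
  haveI := Fintype.ofFinite G
  haveI := Fintype.ofFinite K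
  have hKT : K ≤ inertia K θ := le_inertia K (isClassFunction_of_isIrr hθ)
  set T := inertia K θ with hT
  haveI := Fintype.ofFinite (K.subgroupOf T)
  have hc : (Nat.card (K.subgroupOf T)).Coprime (K.subgroupOf T).index := by
    rw [Nat.card_congr (Subgroup.subgroupOfEquivOfLe hKT).toEquiv]
    exact hcop.coprime_dvd_right (Subgroup.relIndex_dvd_index_of_le hKT)
  obtain ⟨χ, hχ, hχK⟩ := extends_coprime (K.subgroupOf T)
    (CfsgLib.OddChar.isIrr_toSub K T hKT hθ)
    (fun t n => by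
      have h1 := congrFun ((mem_inertia K).1 (hT ▸ t.2 : (t : G) ∈ inertia K θ))
        ⟨((n : T) : G), Subgroup.mem_subgroupOf.1 n.2⟩
      simpa [CfsgLib.OddChar.toSub, conjFun] using h1)
    hc
  exact ⟨χ, isCharacter_of_isIrr hχ, fun n hn => hχK ⟨⟨n, hn⟩, n.2⟩⟩

/-- Gallagher and Clifford: degrees over an extendible character. -/
theorem exists_degree_extends (K : Subgroup G) [K.Normal] {θ : K → ℂ}
    (hθ : Cfsg.IsIrrCharacter K θ) (hext : Extends K θ)
    (β : Cfsg.IrrCharacter (↥(inertia K θ) ⧸ K.subgroupOf (inertia K θ))) :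
    ∃ χ : Cfsg.IrrCharacter G,
      Cfsg.charDegree (χ : G → ℂ) = (inertia K θ).index * Cfsg.charDegree θ *
        Cfsg.charDegree (β : ↥(inertia K θ) ⧸ K.subgroupOf (inertia K θ) → ℂ) := by
  haveI := Fintype.ofFinite G
  haveI := Fintype.ofFinite K
  obtain ⟨ψ, hψ, hψK⟩ := hext
  have hKT : K ≤ inertia K θ := le_inertia K (isClassFunction_of_isIrr hθ)
  haveI := Fintype.ofFinite (inertia K θ)
  haveI := Fintype.ofFinite (K.subgroupOf (inertia K θ))
  haveI := Fintype.ofFinite (↥(inertia K θ) ⧸ K.subgroupOf (inertia K θ))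
  have hres : Cfsg.IsIrrCharacter (K.subgroupOf (inertia K θ))
      (fun n : K.subgroupOf (inertia K θ) => ψ n) := by
    have he : (fun n : K.subgroupOf (inertia K θ) => ψ n) =
        CfsgLib.OddChar.toSub K (inertia K θ) θ := funext fun n => hψK
          ⟨((n : inertia K θ) : G), Subgroup.mem_subgroupOf.1 n.2⟩ (n : inertia K θ).2
    rw [he]
    exact CfsgLib.OddChar.isIrr_toSub K _ hKT hθ
  have hprod := isIrr_mul_comp_mk' (K.subgroupOf (inertia K θ)) hψ hres β.2
  set η := ψ * ((β : ↥(inertia K θ) ⧸ K.subgroupOf (inertia K θ) → ℂ) ∘ QuotientGroup.mk) with hη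
  have hηK : (fun n : K => η ⟨n, hKT n.2⟩) =
      (β : ↥(inertia K θ) ⧸ K.subgroupOf (inertia K θ) → ℂ) (1 : ↥(inertia K θ) ⧸ K.subgroupOf (inertia K θ)) • θ := by
    funext n
    have h1 : ((⟨n, hKT n.2⟩ : inertia K θ) :
        ↥(inertia K θ) ⧸ K.subgroupOf (inertia K θ)) = 1 :=
      (QuotientGroup.eq_one_iff _).2 n.2
    simp [hη, h1, hψK n (hKT n.2), mul_comm]
  have hne : Cfsg.classInner (fun n : K => η ⟨n, hKT n.2⟩) θ ≠ 0 := by
    rw [hηK, classInner_smul_left, classInner_irr_self hθ, mul_one]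
    exact irr_one_ne_zero β.2
  obtain ⟨hind, -⟩ := CfsgLib.OddChar.indFun_irr_of_inertia K (inertia K θ) hθ
    (fun g => mem_inertia K) hKT hprod hne
  refine ⟨⟨_, hind⟩, deg_of_cast ?_⟩
  have h2 : η 1 = θ 1 * (β : ↥(inertia K θ) ⧸ K.subgroupOf (inertia K θ) → ℂ) 1 := by
    have := congrFun hηK 1
    rw [Pi.smul_apply, smul_eq_mul, mul_comm] at this
    exact this
  show Cfsg.indFun (inertia K θ) η 1 = _
  rw [indFun_one, h2, deg_cast hθ, deg_cast β.2]
  push_cast
  ring

variable {K H : Subgroup G}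

/-- The projection to a complement. -/
theorem exists_projection [K.Normal] (hKH : Subgroup.IsComplement' K H) :
    ∃ π : G →* H, (∀ h : H, π h = h) ∧ (∀ g, π g = 1 ↔ g ∈ K) := by
  have hb : Function.Bijective ((QuotientGroup.mk' K).comp H.subtype) := by
    refine (Nat.bijective_iff_injective_and_card _).2 ⟨?_, ?_⟩
    · rw [injective_iff_map_eq_one]
      intro h hh
      have h1 : (h : G) ∈ K ⊓ H := ⟨(QuotientGroup.eq_one_iff _).1 hh, h.2⟩
      rw [hKH.disjoint.eq_bot, Subgroup.mem_bot] at h1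
      exact Subtype.ext h1
    · rw [← Subgroup.index_eq_card]
      exact hKH.symm.index_eq_card.symm
  let e := MulEquiv.ofBijective _ hb
  refine ⟨e.symm.toMonoidHom.comp (QuotientGroup.mk' K), fun h => e.symm_apply_apply h, fun g => ?_⟩
  show e.symm (g : G ⧸ K) = 1 ↔ _
  rw [EmbeddingLike.map_eq_one_iff, QuotientGroup.eq_one_iff]

theorem exists_mul_of_isComplement' (hKH : Subgroup.IsComplement' K H) (g : G) :
    ∃ k ∈ K, ∃ h ∈ H, g = k * h := by
  obtain ⟨⟨⟨k, hk⟩, ⟨h, hh⟩⟩, e⟩ := hKH.2 g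
  exact ⟨k, hk, h, hh, e.symm⟩

/-- The stabiliser in the complement has the same index as the inertia group, and is isomorphic to
the quotient of the inertia group. -/
theorem stabiliser_equiv [K.Normal] (hKH : Subgroup.IsComplement' K H) (T : Subgroup G)
    (hKT : K ≤ T) :
    (T.comap H.subtype).index = T.index ∧
      Nonempty (↥(T.comap H.subtype) ≃* ↥T ⧸ K.subgroupOf T) := by
  let f : ↥(T.comap H.subtype) →* T :=
    { toFun := fun u => ⟨((u : H) : G), u.2⟩
      map_one' := rfl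
      map_mul' := fun _ _ => rfl }
  have hb : Function.Bijective ((QuotientGroup.mk' (K.subgroupOf T)).comp f) := by
    refine ⟨?_, fun x => ?_⟩
    · rw [injective_iff_map_eq_one]
      intro u hu
      have h0 : f u ∈ K.subgroupOf T := (QuotientGroup.eq_one_iff _).1 hu
      have h1 : ((u : H) : G) ∈ K ⊓ H := ⟨Subgroup.mem_subgroupOf.1 h0, (u : H).2⟩
      rw [hKH.disjoint.eq_bot, Subgroup.mem_bot] at h1
      exact Subtype.ext (Subtype.ext h1)
    · obtain ⟨⟨t, ht⟩, rfl⟩ := QuotientGroup.mk'_surjective _ x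
      obtain ⟨k, hk, h, hh, rfl⟩ := exists_mul_of_isComplement' hKH t
      have hT : h ∈ T := by
        have := T.mul_mem (T.inv_mem (hKT hk)) ht
        rwa [inv_mul_cancel_left] at this
      refine ⟨⟨⟨h, hh⟩, hT⟩, QuotientGroup.eq.2 (Subgroup.mem_subgroupOf.2 ?_)⟩
      show h⁻¹ * (k * h) ∈ K
      rw [← mul_assoc]
      simpa using ‹K.Normal›.conj_mem k hk h⁻¹
  let e := MulEquiv.ofBijective _ hb
  refine ⟨?_, ⟨e⟩⟩
  have h1 : Nat.card T = Nat.card K * Nat.card (T.comap H.subtype) := by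
    rw [Nat.card_congr e.toEquiv, Subgroup.card_eq_card_quotient_mul_card_subgroup (K.subgroupOf T),
      Nat.card_congr (Subgroup.subgroupOfEquivOfLe hKT).toEquiv, mul_comm]
  have h2 := hKH.card_mul_card
  rw [← (T.comap H.subtype).index_mul_card, ← T.index_mul_card, h1] at h2
  refine Nat.eq_of_mul_eq_mul_right (Nat.mul_pos (Nat.card_pos (α := K))
    (Nat.card_pos (α := T.comap H.subtype))) ?_
  rw [← h2]
  ring

/-- The subgroup contains a unique Sylow subgroup, which is abelian and normal in it. -/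
def StabSylow {Y : Type u} [Group Y] (q : ℕ) (U : Subgroup Y) : Prop :=
  ∃ Q : Sylow q Y, (Q : Subgroup Y) ≤ U ∧ U ≤ Subgroup.normalizer ((Q : Subgroup Y) : Set Y) ∧
    (∀ a ∈ (Q : Subgroup Y), ∀ b ∈ (Q : Subgroup Y), a * b = b * a) ∧
    ∀ Q' : Sylow q Y, (Q' : Subgroup Y) ≤ U → Q' = Q

omit [Finite G] in
theorem stabSylow_of_degrees {Y : Type u} [Group Y] [Finite Y] (U : Subgroup Y)
    [Group.IsSolvable U] {q : ℕ} [hq : Fact q.Prime] (hidx : ¬ q ∣ U.index)
    (hdeg : ∀ β : Cfsg.IrrCharacter U, ¬ q ∣ Cfsg.charDegree (β : U → ℂ)) : StabSylow q U := by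
  obtain ⟨Q, hQU⟩ := CfsgLib.CharNormal.exists_sylow_le_of_not_dvd_index hidx
  obtain ⟨hn, hc⟩ := CfsgLib.BlockArith.sylow_normal_abelian (Nat.card U) U rfl (Or.inl inferInstance)
    hdeg (Q.subtype hQU)
  refine ⟨Q, hQU, ?_, fun a ha b hb => ?_, fun Q' hQ' => ?_⟩
  · exact (Subgroup.normal_subgroupOf_iff_le_normalizer hQU).1 hn
  · exact congrArg Subtype.val (hc ⟨a, hQU ha⟩ ha ⟨b, hQU hb⟩ hb)
  · haveI := hn
    letI := Sylow.unique_of_normal (Q.subtype hQU) hn
    exact Sylow.subtype_injective (Subsingleton.elim (Q'.subtype hQ') (Q.subtype hQU))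

/-- The consequence of a missing edge. -/
theorem stabSylow_of_noEdge [Group.IsSolvable G] [K.Normal] (hKH : Subgroup.IsComplement' K H)
    {θ : K → ℂ} (hθ : Cfsg.IsIrrCharacter K θ) (hext : Extends K θ) {s q : ℕ} [hq : Fact q.Prime]
    (hsq : NoEdge G s q)
    (hs : s ∣ ((inertia K θ).comap H.subtype).index * Cfsg.charDegree θ) :
    StabSylow q ((inertia K θ).comap H.subtype) := by
  haveI := Fintype.ofFinite G
  haveI := Fintype.ofFinite K
  obtain ⟨hidx, ⟨e⟩⟩ := stabiliser_equiv hKH (inertia K θ)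
    (le_inertia K (isClassFunction_of_isIrr hθ))
  refine stabSylow_of_degrees _ (fun hd => ?_) fun β hd => ?_
  · obtain ⟨χ, hχ⟩ := exists_degree_over K ⟨θ, hθ⟩
    rw [hidx] at hd hs
    exact hsq χ ⟨hs.trans hχ, (hd.mul_right _).trans hχ⟩
  · haveI := Fintype.ofFinite ((inertia K θ).comap H.subtype)
    haveI := Fintype.ofFinite (↥(inertia K θ) ⧸ K.subgroupOf (inertia K θ))
    obtain ⟨χ, hχ⟩ := exists_degree_extends K hθ hext
      ⟨_, isIrr_comp_mulEquiv β.2 e.symm⟩
    rw [hidx] at hs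
    refine hsq χ ⟨hχ ▸ hs.mul_right _, hχ ▸ ?_⟩
    refine dvd_mul_of_dvd_right ?_ _
    show q ∣ Cfsg.charDegree ((β : ↥((inertia K θ).comap H.subtype) → ℂ) ∘ e.symm)
    rwa [deg_of_eq (χ := (β : ↥((inertia K θ).comap H.subtype) → ℂ) ∘ e.symm)
      (ψ := (β : ↥((inertia K θ).comap H.subtype) → ℂ)) (by rw [Function.comp_apply, map_one])]

end CfsgLib.ThreePrimes
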