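import Cfsg.Agent.Lib.ThreePrimes.Semilinear

/-!
# Fixed spaces of Sylow subgroups partitioning the module

If every non-trivial vector of a faithful irreducible module is fixed by exactly one Sylow
`q`-subgroup then the `q`-core is trivial and the number of Sylow `q`-subgroups is
`(l ^ d - 1) / (l ^ w - 1)`, `0 < w < d`.
-/

set_option autoImplicit false

open scoped Classical Pointwise

namespace CfsgLib.ThreePrimes

open Cfsg

universe u v

variable {X : Type u} [Group X] [Finite X] {V : Type v} [CommGroup V] [Finite V] {l d : ℕ}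
  [hl : Fact l.Prime] (φ : X →* MulAut V)

omit [Finite X] [Finite V] in
theorem eq_bot_of_fixes (hφ : Function.Injective φ) {T : Subgroup X}
    (h : ∀ v : V, ∀ g ∈ T, φ g v = v) : T = ⊥ :=
  (Subgroup.eq_bot_iff_forall _).2 fun g hg =>
    hφ (by rw [map_one]; exact MulEquiv.ext fun v => h v g hg)

/-- The core of the characteristic is trivial. -/
theorem pCore_char_eq_bot (hφ : Function.Injective φ) (hcard : Nat.card V = l ^ d) (hd : 0 < d)
    (hirr : ∀ U : Subgroup V, (∀ g, ∀ v ∈ U, φ g v ∈ U) → U = ⊥ ∨ U = ⊤) : pCore l X = ⊥ := by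
  set T := pCore l X
  haveI : T.Normal := Subgroup.sSup_normal _ fun N hN => hN.1
  set F := fixSub φ T
  rcases hirr F (fun g v hv => fixSub_invariant φ (Subgroup.normalizer_eq_top T ▸ Subgroup.mem_top g) hv)
    with h | h
  · exfalso
    have h1 := card_modEq_fixed (CfsgLib.Cores.isPGroup_pCore (G := X) l) (φ.comp T.subtype) ⊤
      fun _ _ _ => Subgroup.mem_top _
    rw [Subgroup.card_top, hcard, show Nat.card {u : V // u ∈ (⊤ : Subgroup V) ∧
        ∀ g, (φ.comp T.subtype) g u = u} = Nat.card F from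
      Nat.card_congr (Equiv.subtypeEquivRight fun u =>
        ⟨fun h g hg => h.2 ⟨g, hg⟩, fun h => ⟨Subgroup.mem_top _, fun g => h g g.2⟩⟩), h,
      Subgroup.card_bot] at h1
    have h2 : l ∣ l ^ d := dvd_pow_self l hd.ne'
    exact hl.out.ne_one (Nat.dvd_one.1 (h1.dvd_iff (dvd_refl l) |>.1 h2))
  · exact eq_bot_of_fixes φ hφ fun v g hg => (h ▸ Subgroup.mem_top v : v ∈ F) g hg

variable {q : ℕ} [hq : Fact q.Prime]

/-- The `q`-core fixes every vector. -/
theorem pCore_eq_bot (hφ : Function.Injective φ)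
    (hu : ∀ v : V, v ≠ 1 → ∃! Q : Sylow q X, v ∈ fixSub φ (Q : Subgroup X)) : pCore q X = ⊥ := by
  refine eq_bot_of_fixes φ hφ fun v g hg => ?_
  by_cases hv : v = 1
  · rw [hv, map_one]
  · obtain ⟨Q, hQ, -⟩ := hu v hv
    exact hQ g (CfsgLib.Cores.pCore_le_sylow Q hg)

/-- Counting the vectors by the Sylow subgroup fixing them. -/
theorem sylow_count (hφ : Function.Injective φ) (hcard : Nat.card V = l ^ d) (hd : 0 < d)
    (hqX : q ∣ Nat.card X)
    (hu : ∀ v : V, v ≠ 1 → ∃! Q : Sylow q X, v ∈ fixSub φ (Q : Subgroup X)) :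
    ∃ w, 0 < w ∧ w < d ∧ Nat.card (Sylow q X) * (l ^ w - 1) = l ^ d - 1 ∧
      (∀ Q : Sylow q X, Nat.card (fixSub φ (Q : Subgroup X)) = l ^ w) ∧
      Nat.card (Sylow q X) ∣ Nat.card X ∧ Nat.card (Sylow q X) % q = 1 := by
  obtain ⟨Q₀⟩ := (inferInstance : Nonempty (Sylow q X))
  obtain ⟨w, hw, hwc⟩ := prime_pow_card_le hcard (fixSub φ (Q₀ : Subgroup X))
  have hall : ∀ Q : Sylow q X, Nat.card (fixSub φ (Q : Subgroup X)) = l ^ w := by
    intro Q
    obtain ⟨g, hg⟩ := MulAction.exists_smul_eq X Q₀ Q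
    rw [← hwc]
    refine Nat.card_congr ((φ g).toEquiv.subtypeEquiv fun v => ?_).symm
    show v ∈ fixSub φ (Q₀ : Subgroup X) ↔ φ g v ∈ fixSub φ (Q : Subgroup X)
    rw [← hg, Sylow.coe_subgroup_smul]
    constructor
    · intro hv t ht
      obtain ⟨s, hs, rfl⟩ := (Subgroup.mem_smul_pointwise_iff_exists _ _ _).1 ht
      rw [MulAut.smul_def, MulAut.conj_apply, map_mul, map_mul, MulAut.mul_apply, MulAut.mul_apply,
        map_inv, show (φ g)⁻¹ (φ g v) = v from (φ g).symm_apply_apply v, hv s hs]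
    · intro hv s hs
      have h1 := hv (g * s * g⁻¹) ((Subgroup.mem_smul_pointwise_iff_exists _ _ _).2 ⟨s, hs, rfl⟩)
      rw [map_mul, map_mul, MulAut.mul_apply, MulAut.mul_apply, map_inv,
        show (φ g)⁻¹ (φ g v) = v from (φ g).symm_apply_apply v] at h1
      exact (φ g).injective h1
  have hV1 : 1 < Nat.card V := hcard ▸ Nat.one_lt_pow hd.ne' hl.out.one_lt
  obtain ⟨v₀, hv₀⟩ : ∃ v : V, v ≠ 1 := by
    haveI := Finite.one_lt_card_iff_nontrivial.1 hV1
    exact exists_ne 1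
  obtain ⟨Q₁, hQ₁, -⟩ := hu v₀ hv₀
  have hw0 : 0 < w := by
    by_contra h0
    have h1 := Subgroup.eq_bot_of_card_eq _ ((hall Q₁).trans (by rw [show w = 0 by omega, pow_zero]))
    rw [h1, Subgroup.mem_bot] at hQ₁
    exact hv₀ hQ₁
  have hwd : w < d := lt_of_le_of_ne hw fun he => by
    have h1 := Subgroup.eq_top_of_card_eq _ (hwc.trans (by rw [he, hcard]))
    have h2 : (Q₀ : Subgroup X) = ⊥ := eq_bot_of_fixes φ hφ fun v g hg =>
      (h1 ▸ Subgroup.mem_top v : v ∈ fixSub φ (Q₀ : Subgroup X)) g hg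
    exact Q₀.ne_bot_of_dvd_card hqX h2
  refine ⟨w, hw0, hwd, ?_, hall, Q₀.card_dvd_index.trans (Subgroup.index_dvd_card _), ?_⟩
  · have hne : ∀ {α : Type v} [Finite α] (a : α), Nat.card {x : α // x ≠ a} = Nat.card α - 1 := by
      intro α _ a
      haveI := Fintype.ofFinite α
      rw [Nat.card_eq_fintype_card, Nat.card_eq_fintype_card, Fintype.card_subtype_compl,
        Fintype.card_subtype_eq]
    let f : (Σ Q : Sylow q X, {v : fixSub φ (Q : Subgroup X) // v ≠ 1}) → {v : V // v ≠ 1} :=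
      fun s => ⟨(s.2 : fixSub φ (s.1 : Subgroup X)), fun h => s.2.2 (Subtype.ext h)⟩
    have hf : Function.Bijective f := by
      constructor
      · rintro ⟨Q, v, hv⟩ ⟨Q', v', hv'⟩ h
        have h1 : (v : V) = v' := congrArg Subtype.val h
        obtain rfl : Q = Q' := (hu v fun h => hv (Subtype.ext h)).unique v.2 (h1 ▸ v'.2)
        obtain rfl : v = v' := Subtype.ext h1
        rfl
      · rintro ⟨v, hv⟩
        obtain ⟨Q, hQ, -⟩ := hu v hv
        exact ⟨⟨Q, ⟨v, hQ⟩, fun h => hv (congrArg Subtype.val h)⟩, rfl⟩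
    have h := Nat.card_congr (Equiv.ofBijective f hf)
    haveI := Fintype.ofFinite (Sylow q X)
    rw [hne, hcard, Nat.card_sigma, Finset.sum_congr rfl fun Q _ => by rw [hne, hall Q],
      Finset.sum_const, Finset.card_univ, ← Nat.card_eq_fintype_card, smul_eq_mul] at h
    exact h
  · exact Nat.mod_eq_of_modEq (card_sylow_modEq_one q X) hq.out.one_lt

end CfsgLib.ThreePrimes
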