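import Cfsg.Agent.Lib.Char.ThreeDegreesBasic

/-!
# Degrees over a normal subgroup
-/

set_option autoImplicit false

open scoped Classical

namespace CfsgLib.ThreePrimes

open CfsgLib.Char CfsgLib.CharNormal CfsgLib.ThreeDeg

universe u

variable {G : Type u} [Group G] [Fintype G]

/-- Some degree is divisible by the number of conjugates times the degree below. -/
theorem exists_degree_over (N : Subgroup G) [N.Normal] (θ : Cfsg.IrrCharacter N) :
    ∃ χ : Cfsg.IrrCharacter G,
      (inertia N (θ : N → ℂ)).index * Cfsg.charDegree (θ : N → ℂ) ∣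
        Cfsg.charDegree (χ : G → ℂ) := by
  obtain ⟨χ, h0⟩ := exists_irr_over N θ.2
  refine ⟨χ, ?_⟩
  obtain ⟨e, he⟩ := classInner_char_nat (isCharacter_res N (isCharacter_of_isIrr χ.2))
    (isCharacter_of_isIrr θ.2)
  have h := degree_eq_mul_card_orbit N χ.2 θ h0
  rw [he, card_orbit_eq_index, deg_cast χ.2, deg_cast θ.2] at h
  refine ⟨e, ?_⟩
  have h1 : Cfsg.charDegree (χ : G → ℂ) =
      e * (inertia N (θ : N → ℂ)).index * Cfsg.charDegree (θ : N → ℂ) := by exact_mod_cast h
  rw [h1]
  ring

end CfsgLib.ThreePrimes
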