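import Cfsg.Agent.Lib.ThreePrimes.Module

/-!
# No module partitioned for two primes: conclusion

The exceptional pairs of Zsigmondy's theorem; `64` is handled by the normal `7`-subgroup.
-/

set_option autoImplicit false

open scoped Classical

namespace CfsgLib.ThreePrimes

open Cfsg CfsgLib.Solvable

universe u v

theorem card_dvd_GL_aux {A : Type v} [CommGroup A] [Finite A] {l d : ℕ} [hl : Fact l.Prime]
    [Module (ZMod l) (Additive A)] (hcard : Nat.card A = l ^ d) :
    Nat.card (MulAut A) ∣ Nat.card (GL (Fin d) (ZMod l)) := by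
  haveI : Finite (Additive A) := Finite.of_equiv A Additive.ofMul
  haveI : Module.Finite (ZMod l) (Additive A) := Module.Finite.of_finite
  have hd : Module.finrank (ZMod l) (Additive A) = d := by
    have h := Module.natCard_eq_pow_finrank (K := ZMod l) (V := Additive A)
    rw [Nat.card_zmod, ← Nat.card_congr (Additive.ofMul (α := A)), hcard] at h
    exact (Nat.pow_right_injective hl.out.two_le h).symm
  let B := (Module.finBasis (ZMod l) (Additive A)).reindex (finCongr hd)
  let g : MulAut A →* Matrix (Fin d) (Fin d) (ZMod l) :=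
    ((LinearMap.toMatrixAlgEquiv B).toRingEquiv.toRingHom : _ →* _).comp (zmodAut l)
  refine Subgroup.card_dvd_of_injective g.toHomUnits fun a b hab => MulEquiv.ext fun x => ?_
  have h1 : g a = g b := congrArg Units.val hab
  have h := LinearMap.congr_fun ((LinearMap.toMatrixAlgEquiv B).injective h1) (Additive.ofMul x)
  rw [zmodAut_apply, zmodAut_apply] at h
  exact Additive.ofMul.injective h

theorem card_aut_dvd_GL {A : Type v} [CommGroup A] [Finite A] {l d : ℕ} [hl : Fact l.Prime]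
    (hexp : ∀ a : A, a ^ l = 1) (hcard : Nat.card A = l ^ d) :
    Nat.card (MulAut A) ∣ Nat.card (GL (Fin d) (ZMod l)) := by
  have h0 : ∀ v : Additive A, l • v = 0 := fun v => Additive.toMul.injective (by
    rw [toMul_nsmul, toMul_zero]
    exact hexp _)
  exact @card_dvd_GL_aux A _ _ l d _ (AddCommGroup.zmodModule h0) hcard

variable {X : Type u} [Group X] [Finite X] [Group.IsSolvable X] {V : Type v} [CommGroup V] [Finite V]
  {l d : ℕ} [hl : Fact l.Prime] (φ : X →* MulAut V)

/-- Order `64`, fixed spaces of order `4` of the Sylow `5`-subgroups: impossible. -/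
theorem six_two (hφ : Function.Injective φ) (hexp : ∀ a : V, a ^ 2 = 1) (hcard : Nat.card V = 2 ^ 6)
    (hirr : ∀ U : Subgroup V, (∀ g, ∀ v ∈ U, φ g v ∈ U) → U = ⊥ ∨ U = ⊤)
    (h7 : 7 ∣ Nat.card X) [Fact (Nat.Prime 5)] (Q : Sylow 5 X)
    (hW : Nat.card (fixSub φ (Q : Subgroup X)) = 4) : False := by
  haveI : Fact (Nat.Prime 7) := ⟨by norm_num⟩
  obtain ⟨P⟩ := (inferInstance : Nonempty (Sylow 7 X))
  haveI : Nontrivial (P : Subgroup X) :=
    (Subgroup.nontrivial_iff_ne_bot _).2 (P.ne_bot_of_dvd_card h7)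
  haveI := P.2.center_nontrivial
  obtain ⟨c, hc⟩ := exists_prime_orderOf_dvd_card' (G := Subgroup.center (P : Subgroup X)) 7 (by
    obtain ⟨k, hk⟩ := IsPGroup.iff_card.1 (P.2.to_subgroup (Subgroup.center (P : Subgroup X)))
    rcases k with _ | k
    · exact absurd hk (by rw [pow_zero]; exact Finite.one_lt_card.ne')
    · exact ⟨7 ^ k, by rw [hk, pow_succ']⟩)
  set x : X := ((c : (P : Subgroup X)) : X) with hxdef
  have hx : orderOf x = 7 := by rw [hxdef, Subgroup.orderOf_coe, Subgroup.orderOf_coe, hc]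
  have hcore : pCore 2 X = ⊥ := pCore_char_eq_bot φ hφ hcard (by norm_num) hirr
  have hxT : x ∈ pCore 7 X := by
    refine CfsgLib.PGroup.ConjAb.mem_pCore_of_mem_fitting (by norm_num) (n := 1)
      (mem_fitting_of_centralizes_cores fun t ht => Subgroup.mem_centralizer_iff.2 fun a ha => ?_)
      (by rw [hx, pow_one])
    haveI := Fact.mk ht
    rcases eq_or_ne t 7 with rfl | ht7
    · exact congrArg Subtype.val
        (Subgroup.mem_center_iff.1 c.2 ⟨a, CfsgLib.Cores.pCore_le_sylow P ha⟩)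
    rcases eq_or_ne t 2 with rfl | ht2
    · rw [hcore, SetLike.mem_coe, Subgroup.mem_bot] at ha
      rw [ha, one_mul, mul_one]
    rcases commute_or_exceptional φ hφ hexp hcard (z := 7) (n := 1) (by norm_num) ht7 ht2 (by norm_num)
      (by norm_num) _ (CfsgLib.Cores.isPGroup_pCore t) (y := x) (by rw [pow_one, ← hx, pow_orderOf_eq_one])
      (mem_normalizer_pCore t x) with h1 | ⟨h2, -⟩
    · have := h1 a ha
      rw [Nat.sub_self, pow_zero, pow_one] at this
      exact this.symm.eq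
    · exact absurd h2 ht2
  set T := pCore 7 X with hT
  haveI hTn : T.Normal := Subgroup.sSup_normal _ fun N hN => hN.1
  obtain ⟨k, hk⟩ := CfsgLib.Cores.card_pCore_eq_pow (G := X) 7
  have hk2 : k ≤ 2 := by
    have h1 : Nat.card T ∣ Nat.card (GL (Fin 6) (ZMod 2)) :=
      (Subgroup.card_dvd_of_injective (φ.comp T.subtype) (hφ.comp Subtype.val_injective)).trans
        (card_aut_dvd_GL hexp hcard)
    rw [hk, Matrix.card_GL_field] at h1
    by_contra hk3
    have h2 := (pow_dvd_pow 7 (show 3 ≤ k by omega)).trans h1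
    simp only [ZMod.card, Fin.prod_univ_succ, Finset.univ_eq_empty, Finset.prod_empty] at h2
    norm_num at h2
  -- the Sylow subgroup centralises the normal `7`-subgroup
  let ψ : (Q : Subgroup X) →* MulAut T := MulAut.conjNormal.comp (Q : Subgroup X).subtype
  have hQT : ∀ g ∈ (Q : Subgroup X), ∀ a ∈ T, g * a = a * g := by
    have h1 := card_modEq_fixed Q.2 ψ ⊤ fun _ _ _ => Subgroup.mem_top _
    let C : Subgroup T := fixSub ψ ⊤
    rw [Subgroup.card_top, show Nat.card {u : T // u ∈ (⊤ : Subgroup T) ∧ ∀ g, ψ g u = u} =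
      Nat.card C from Nat.card_congr (Equiv.subtypeEquivRight fun u =>
        ⟨fun h g _ => h.2 g, fun h => ⟨Subgroup.mem_top _, fun g => h g (Subgroup.mem_top g)⟩⟩),
      hk] at h1
    obtain ⟨j, hj, hjc⟩ := (Nat.dvd_prime_pow (by norm_num)).1 (hk ▸ C.card_subgroup_dvd_card)
    rw [hjc] at h1
    have hjk : j = k := by
      interval_cases k <;> interval_cases j <;> first | rfl | (revert h1; decide)
    have hC : C = ⊤ := Subgroup.eq_top_of_card_eq _ (by rw [hjc, hjk, ← hk])
    intro g hg a ha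
    have h2 := congrArg Subtype.val
      ((hC ▸ Subgroup.mem_top (⟨a, ha⟩ : T) : (⟨a, ha⟩ : T) ∈ C) ⟨g, hg⟩ (Subgroup.mem_top _))
    exact mul_inv_eq_iff_eq_mul.1 h2
  -- so it fixes a vector
  set W := fixSub φ (Q : Subgroup X)
  have hTW : ∀ g : T, ∀ v ∈ W, φ (g : X) v ∈ W := fun g v hv t ht => by
    rw [← MulAut.mul_apply, ← map_mul, hQT t ht g g.2, map_mul, MulAut.mul_apply, hv t ht]
  have h3 := card_modEq_fixed (CfsgLib.Cores.isPGroup_pCore (G := X) 7) (φ.comp T.subtype) W hTW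
  rw [hW] at h3
  obtain ⟨v, hv, hv1⟩ : ∃ v, v ∈ fixSub φ T ∧ v ≠ 1 := by
    by_contra hno
    push Not at hno
    rw [show Nat.card {u : V // u ∈ W ∧ ∀ g, (φ.comp T.subtype) g u = u} = 1 from
      Nat.card_eq_one_iff_unique.2 ⟨⟨fun a b => Subtype.ext
        ((hno _ fun g hg => a.2.2 ⟨g, hg⟩).trans (hno _ fun g hg => b.2.2 ⟨g, hg⟩).symm)⟩,
        ⟨⟨1, W.one_mem, fun g => map_one _⟩⟩⟩] at h3
    exact absurd h3 (by decide)
  rcases hirr (fixSub φ T) (fun g v hv => fixSub_invariant φ (mem_normalizer_pCore 7 g) hv) with h | h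
  · rw [h, Subgroup.mem_bot] at hv
    exact hv1 hv
  · have h4 := eq_bot_of_fixes φ hφ (T := T) fun v g hg =>
      (h ▸ Subgroup.mem_top v : v ∈ fixSub φ T) g hg
    rw [h4, Subgroup.mem_bot] at hxT
    rw [hxT, orderOf_one] at hx
    norm_num at hx

/-- No such setting exists. -/
theorem Setting.false {q r : ℕ} [hq : Fact q.Prime] [hr : Fact r.Prime]
    (h : Setting φ (l := l) d q r) (hqr : q ≠ r) : False := by
  obtain ⟨w, hw0, hwd, hn, hWq, hnX, hn1⟩ :=
    sylow_count φ h.inj h.card h.pos h.hq.dvd h.hq.unique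
  obtain ⟨w', hw0', hwd', hn', hWr, hnX', hn1'⟩ :=
    sylow_count φ h.inj h.card h.pos h.hr.dvd h.hr.unique
  have hqd := h.hq.le_succ φ h.inj h.exp h.card h.core_l
  have hrd := h.hr.le_succ φ h.inj h.exp h.card h.core_l
  have hl2 := hl.out.two_le
  rcases Nat.lt_or_ge d 3 with hd | hd
  · -- dimension `2`
    obtain rfl : d = 2 := by omega
    obtain rfl : w = 1 := by omega
    obtain rfl : w' = 1 := by omega
    have key : ∀ {n s : ℕ}, s.Prime → n * (l ^ 1 - 1) = l ^ 2 - 1 → n % s = 1 → s = l := by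
      intro n s hs hns hn1
      have e : n = l + 1 := Nat.eq_of_mul_eq_mul_right (show 0 < l ^ 1 - 1 by rw [pow_one]; omega) (by
        rw [hns, pow_one, ← one_pow 2, Nat.sq_sub_sq, one_pow])
      refine (Nat.prime_dvd_prime_iff_eq hs hl.out).1 ?_
      rw [e] at hn1
      have h2 := Nat.dvd_of_mod_eq_zero (show (l + 1 - 1) % s = 0 from
        Nat.sub_mod_eq_zero_of_mod_eq (by rw [hn1, Nat.one_mod_eq_one.2 hs.ne_one]))
      simpa using h2
    exact hqr ((key hq.out hn hn1).trans (key hr.out hn' hn1').symm)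
  by_cases h62 : d = 6 ∧ l = 2
  · obtain ⟨rfl, rfl⟩ := h62
    have h2 : ∀ {n s w : ℕ}, s.Prime → s ≤ 7 → 0 < w → w < 6 → n * (2 ^ w - 1) = 2 ^ 6 - 1 →
        n % s = 1 → s = 2 ∨ (s = 5 ∧ w = 2 ∧ n = 21) := by
      intro n s w hs hs7 hw hw6 hns hn1
      have h2s := hs.two_le
      interval_cases w <;> interval_cases s
      all_goals norm_num at hns
      all_goals first | omega | (norm_num at hs)
    rcases h2 hq.out hqd hw0 hwd hn hn1 with e | ⟨e5, ew, en⟩
    · rcases h2 hr.out hrd hw0' hwd' hn' hn1' with e' | ⟨e5, ew, en⟩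
      · exact hqr (e.trans e'.symm)
      · subst e5 ew
        exact six_two φ h.inj h.exp h.card h.irr
          ((show (7 : ℕ) ∣ 21 by norm_num).trans (en ▸ hnX')) default (hWr _)
    · subst e5 ew
      exact six_two φ h.inj h.exp h.card h.irr
        ((show (7 : ℕ) ∣ 21 by norm_num).trans (en ▸ hnX)) default (hWq _)
  by_cases hexc : (d, l) ∈ CfsgLib.Recognition.Zsigmondy.exceptions
  · simp only [CfsgLib.Recognition.Zsigmondy.exceptions, List.mem_cons, List.not_mem_nil, or_false,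
      Prod.mk.injEq] at hexc
    have wit : ∀ z : ℕ, z.Prime → z ∣ l ^ d - 1 → (∀ i < d, 1 ≤ i → ¬ z ∣ l ^ i - 1) →
        z ≠ q ∧ z ≠ r ∧ l ≠ 2 ∧ pCore 2 X ≠ ⊥ ∧ ∃ e, d = 2 ^ e ∧ z = d + 1 := fun z hz h1 h2 => by
      obtain ⟨a, b, c, e, -, f⟩ := h.primitive φ hqr (by omega) hz h1 fun i hi hid => h2 i hid hi
      exact ⟨a, b, c, e, f⟩
    have hne2 : ∀ s, s.Prime → pCore 2 X ≠ ⊥ → Part φ s → s ≠ 2 := fun s hs hT hp e => by
      subst e
      haveI := Fact.mk hs
      exact hT (pCore_eq_bot φ h.inj hp.unique)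
    rcases hexc with ⟨rfl, rfl⟩ | ⟨rfl, rfl⟩ | ⟨rfl, rfl⟩ | ⟨rfl, rfl⟩ | ⟨rfl, rfl⟩ | ⟨rfl, rfl⟩ |
      ⟨rfl, rfl⟩ | ⟨rfl, rfl⟩
    · exact (wit 5 (by norm_num) (by norm_num) (by decide)).2.2.1 rfl
    · obtain ⟨h5q, h5r, -, hT, -⟩ := wit 5 (by norm_num) (by norm_num) (by decide)
      have hq2 := hne2 q hq.out hT h.hq
      have hr2 := hne2 r hr.out hT h.hr
      have key : ∀ {s : ℕ}, s.Prime → s ≤ 4 + 1 → s ≠ 2 → 5 ≠ s → s = 3 := by
        intro s hs h5 h2 h5'
        have := hs.two_le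
        interval_cases s <;> first | rfl | omega | norm_num at hs
      exact hqr ((key hq.out hqd hq2 h5q).trans (key hr.out hrd hr2 h5r).symm)
    · exact h62 ⟨rfl, rfl⟩
    · obtain ⟨-, -, -, -, e, he, -⟩ := wit 7 (by norm_num) (by norm_num) (by decide)
      rcases e with _ | _ | _ | e <;> simp [pow_succ] at he <;> omega
    · obtain ⟨-, -, -, -, e, he, -⟩ := wit 7 (by norm_num) (by norm_num) (by decide)
      rcases e with _ | _ | _ | e <;> simp [pow_succ] at he <;> omega
    · exact (wit 11 (by norm_num) (by norm_num) (by decide)).2.2.1 rfl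
    · exact (wit 13 (by norm_num) (by norm_num) (by decide)).2.2.1 rfl
    · exact (wit 19 (by norm_num) (by norm_num) (by decide)).2.2.1 rfl
  obtain ⟨z, hz, hzd, hzi, hbig⟩ :=
    CfsgLib.Recognition.Zsigmondy.exists_large_primitive hd hl2 hexc
  obtain ⟨-, -, -, -, hsq, e, -, hze⟩ := h.primitive φ hqr (by omega) hz hzd hzi
  rcases hbig with hb | hb
  · omega
  · exact hsq hb

end CfsgLib.ThreePrimes
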