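import Cfsg.Agent.Lib.ThreePrimes.Char
import Cfsg.Agent.Lib.ThreePrimes.ModuleFalse

/-!
# The action on linear characters of a normal subgroup

Duality for the linear characters, the stabilisers, counting by the fixed points of Sylow
subgroups, and the transfer to the image group.
-/

set_option autoImplicit false

open scoped Classical

namespace CfsgLib.ThreePrimes

open Cfsg CfsgLib.Char CfsgLib.CharNormal

universe u v

section Dual

variable {G : Type u} [Group G]

/-- Automorphisms of a commutative group, the multiplication found through `CommGroup`. -/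
abbrev AutC (M : Type v) [CommGroup M] := MulAut M

/-- Conjugation on the linear characters of a normal subgroup. -/
noncomputable def dualAct (N : Subgroup G) [N.Normal] : G →* AutC (N →* ℂˣ) where
  toFun g :=
    { toFun := fun f => f.comp (MulAut.conjNormal g⁻¹ : MulAut N).toMonoidHom
      invFun := fun f => f.comp (MulAut.conjNormal g : MulAut N).toMonoidHom
      left_inv := fun f => MonoidHom.ext fun n => by
        show f ((MulAut.conjNormal g⁻¹ : MulAut N) ((MulAut.conjNormal g : MulAut N) n)) = f n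
        rw [← MulAut.mul_apply, ← map_mul, inv_mul_cancel, map_one, MulAut.one_apply]
      right_inv := fun f => MonoidHom.ext fun n => by
        show f ((MulAut.conjNormal g : MulAut N) ((MulAut.conjNormal g⁻¹ : MulAut N) n)) = f n
        rw [← MulAut.mul_apply, ← map_mul, mul_inv_cancel, map_one, MulAut.one_apply]
      map_mul' := fun _ _ => rfl }
  map_one' := MulEquiv.ext fun f => MonoidHom.ext fun n => by
    show f ((MulAut.conjNormal (1 : G)⁻¹ : MulAut N) n) = f n
    rw [inv_one, map_one, MulAut.one_apply]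
  map_mul' g h := MulEquiv.ext fun f => MonoidHom.ext fun n => by
    show f ((MulAut.conjNormal (g * h)⁻¹ : MulAut N) n) =
      f ((MulAut.conjNormal h⁻¹ : MulAut N) ((MulAut.conjNormal g⁻¹ : MulAut N) n))
    rw [mul_inv_rev, map_mul, MulAut.mul_apply]

theorem dualAct_apply (N : Subgroup G) [N.Normal] (g : G) (f : N →* ℂˣ) (n : N) :
    dualAct N g f n = f ((MulAut.conjNormal g⁻¹ : MulAut N) n) := rfl

theorem mem_inertia_linFun (N : Subgroup G) [N.Normal] (f : N →* ℂˣ) (g : G) :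
    g ∈ inertia N (linFun f) ↔ dualAct N g f = f := by
  rw [← inv_mem_iff, mem_inertia]
  constructor
  · intro e
    refine MonoidHom.ext fun n => Units.ext ?_
    have h1 := congrFun e n
    rw [conjFun_eq_comp] at h1
    exact h1
  · intro e
    rw [conjFun_eq_comp]
    exact funext fun n => congrArg Units.val (DFunLike.congr_fun e n)

/-- Centralising elements act trivially. -/
theorem dualAct_eq_one (N : Subgroup G) [N.Normal] {g : G}
    (hg : g ∈ Subgroup.centralizer (N : Set G)) : dualAct N g = 1 := by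
  refine MulEquiv.ext fun f => MonoidHom.ext fun n => ?_
  rw [dualAct_apply, MulAut.one_apply]
  congr 1
  apply Subtype.ext
  rw [MulAut.conjNormal_apply, inv_inv,
    mul_assoc, Subgroup.mem_centralizer_iff.1 hg n n.2, inv_mul_cancel_left]

variable [Finite G]

theorem finite_dual {S : Type u} [Group S] [Finite S] : Finite (S →* ℂˣ) := by
  haveI : Finite (Abelianization S →* ℂˣ) := by
    obtain ⟨e⟩ := CommGroup.monoidHom_mulEquiv_of_hasEnoughRootsOfUnity (Abelianization S) ℂ
    exact Finite.of_equiv _ e.symm.toEquiv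
  exact Finite.of_equiv _ (Abelianization.lift (G := S) (A := ℂˣ)).symm

omit [Finite G] in
/-- Linear characters separate the points modulo the derived subgroup. -/
theorem mem_commutator_of_forall {S : Type u} [Group S] [Finite S] {x : S}
    (h : ∀ f : S →* ℂˣ, f x = 1) : x ∈ commutator S := by
  by_contra hx
  obtain ⟨f, hf⟩ := CommGroup.exists_apply_ne_one_of_hasEnoughRootsOfUnity (Abelianization S) ℂ
    (a := Abelianization.of x) (by rwa [Ne, ← MonoidHom.mem_ker, Abelianization.ker_of])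
  exact hf (h (f.comp Abelianization.of))

omit [Finite G] in
theorem card_dual_of_comm {S : Type u} [Group S] [Finite S] (hS : ∀ a b : S, a * b = b * a) :
    Nat.card (S →* ℂˣ) = Nat.card S := by
  letI : CommGroup S := { (inferInstance : Group S) with mul_comm := hS }
  exact CommGroup.card_monoidHom_of_hasEnoughRootsOfUnity S ℂ

omit [Finite G] in
theorem eq_one_of_forall {S : Type u} [Group S] [Finite S] (hS : ∀ a b : S, a * b = b * a) {x : S}
    (h : ∀ f : S →* ℂˣ, f x = 1) : x = 1 := by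
  have h1 := mem_commutator_of_forall h
  have h2 : commutator S = ⊥ := by
    rw [eq_bot_iff, commutator_def, Subgroup.commutator_le]
    exact fun a _ b _ => Subgroup.mem_bot.2 (commutatorElement_eq_one_iff_mul_comm.2 (hS a b))
  rwa [h2, Subgroup.mem_bot] at h1

omit [Finite G] in
theorem eq_top_of_annihilator {S : Type u} [Group S] [Finite S] (hS : ∀ a b : S, a * b = b * a)
    (U : Subgroup (S →* ℂˣ)) (h : ∀ x : S, (∀ f ∈ U, f x = 1) → x = 1) : U = ⊤ := by
  letI : CommGroup S := { (inferInstance : Group S) with mul_comm := hS }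
  let iso := CommGroup.subgroupOrderIsoSubgroupMonoidHom S ℂ
  have h1 : iso.symm (OrderDual.toDual U) = ⊥ := (Subgroup.eq_bot_iff_forall _).2 fun x hx =>
    h x ((CommGroup.mem_subgroupOrderIsoSubgroupMonoidHom_symm_iff (M := ℂ) U x).1 hx)
  have h2 := iso.symm.injective (h1.trans iso.symm.map_bot.symm)
  exact congrArg OrderDual.ofDual h2

/-- The linear characters of a minimal normal abelian subgroup are irreducible under a subgroup
supplementing its centraliser. -/
theorem dual_irreducible (N : Subgroup G) [hN : N.Normal] (hab : ∀ a ∈ N, ∀ b ∈ N, a * b = b * a)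
    (hmin : ∀ M : Subgroup G, M.Normal → M ≤ N → M = ⊥ ∨ M = N) (H : Subgroup G)
    (hsup : ∀ g : G, ∃ k ∈ Subgroup.centralizer (N : Set G), ∃ h ∈ H, g = k * h)
    (U : Subgroup (N →* ℂˣ)) (hU : ∀ h ∈ H, ∀ f ∈ U, dualAct N h f ∈ U) : U = ⊥ ∨ U = ⊤ := by
  have hG : ∀ g : G, ∀ f ∈ U, dualAct N g f ∈ U := by
    intro g f hf
    obtain ⟨k, hk, h, hh, rfl⟩ := hsup g
    rw [map_mul, dualAct_eq_one N hk, one_mul]
    exact hU h hh f hf
  let M : Subgroup N :=
    { carrier := {n | ∀ f ∈ U, f n = 1}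
      one_mem' := fun f _ => map_one f
      mul_mem' := fun ha hb f hf => by rw [map_mul, ha f hf, hb f hf, one_mul]
      inv_mem' := fun ha f hf => by rw [map_inv, ha f hf, inv_one] }
  have hM : (M.map N.subtype).Normal := by
    refine ⟨fun x hx g => ?_⟩
    obtain ⟨n, hn, rfl⟩ := Subgroup.mem_map.1 hx
    refine Subgroup.mem_map.2 ⟨(MulAut.conjNormal g : MulAut N) n, fun f hf => ?_,
      MulAut.conjNormal_apply g n⟩
    have h1 := hn (dualAct N g⁻¹ f) (hG g⁻¹ f hf)
    rwa [dualAct_apply, inv_inv] at h1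
  rcases hmin _ hM (Subgroup.map_subtype_le M) with h | h
  · refine Or.inr (eq_top_of_annihilator (fun a b => Subtype.ext (hab _ a.2 _ b.2)) U fun x hx => ?_)
    have h1 : (x : G) ∈ M.map N.subtype := Subgroup.mem_map.2 ⟨x, hx, rfl⟩
    rw [h, Subgroup.mem_bot] at h1
    exact Subtype.ext h1
  · refine Or.inl ((Subgroup.eq_bot_iff_forall _).2 fun f hf => MonoidHom.ext fun x => ?_)
    have h1 : (x : G) ∈ M.map N.subtype := by rw [h]; exact x.2
    obtain ⟨y, hy, e⟩ := Subgroup.mem_map.1 h1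
    rw [show x = y from (Subtype.ext e).symm]
    exact hy f hf

end Dual

section Action

variable {Y : Type u} [Group Y] {M : Type v} [CommGroup M]

/-- The stabiliser of a point. -/
def stab (ψ : Y →* MulAut M) (v : M) : Subgroup Y where
  carrier := {g | ψ g v = v}
  one_mem' := by simp
  mul_mem' {a b} ha hb := by
    show ψ (a * b) v = v
    rw [map_mul, MulAut.mul_apply]
    exact (congrArg (ψ a) hb).trans ha
  inv_mem' {a} ha := by
    show ψ a⁻¹ v = v
    rw [map_inv]
    exact ((ψ a).symm_apply_eq).2 (Eq.symm ha)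

theorem mem_stab {ψ : Y →* MulAut M} {v : M} {g : Y} : g ∈ stab ψ v ↔ ψ g v = v := Iff.rfl

theorem mem_fixSub_iff_le {ψ : Y →* MulAut M} {T : Subgroup Y} {v : M} :
    v ∈ fixSub ψ T ↔ T ≤ stab ψ v := Iff.rfl

theorem StabSylow.existsUnique {q : ℕ} {ψ : Y →* MulAut M} {v : M}
    (h : StabSylow q (stab ψ v)) : ∃! R : Sylow q Y, v ∈ fixSub ψ (R : Subgroup Y) := by
  obtain ⟨Q, hQ, -, -, hu⟩ := h
  exact ⟨Q, hQ, fun R hR => hu R hR⟩

variable [Finite Y] [Finite M]

/-- Counting the points outside an invariant subgroup by the Sylow subgroup fixing them. -/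
theorem fix_count {l r : ℕ} [hl : Fact l.Prime] [hr : Fact r.Prime] (ψ : Y →* MulAut M)
    (hM : IsPGroup l M) (hlY : ¬ l ∣ Nat.card Y) (A : Subgroup M)
    (hA : ∀ g, ∀ a ∈ A, ψ g a ∈ A) (hA1 : A ≠ ⊤)
    (hu : ∀ v ∉ A, ∃! R : Sylow r Y, v ∈ fixSub ψ (R : Subgroup Y)) :
    ∃ e c, 0 < e ∧ 0 < c ∧ A.index = l ^ e ∧
      Nat.card (Sylow r Y) * (l ^ c - 1) = l ^ e - 1 ∧
      ∀ R : Sylow r Y, A ≤ fixSub ψ (R : Subgroup Y) ∧
        Nat.card (fixSub ψ (R : Subgroup Y)) = Nat.card A * l ^ c := by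
  obtain ⟨R₀⟩ := (inferInstance : Nonempty (Sylow r Y))
  set F : Sylow r Y → Subgroup M := fun R => fixSub ψ (R : Subgroup Y) with hF
  -- all the fixed spaces have the same orders
  have hsame : ∀ R, Nat.card (F R) = Nat.card (F R₀) ∧
      Nat.card (A ⊓ F R : Subgroup M) = Nat.card (A ⊓ F R₀ : Subgroup M) := by
    intro R
    obtain ⟨g, hg⟩ := MulAction.exists_smul_eq Y R₀ R
    have key : ∀ v, v ∈ F R₀ ↔ ψ g v ∈ F R := by
      intro v
      show v ∈ fixSub ψ (R₀ : Subgroup Y) ↔ ψ g v ∈ fixSub ψ (R : Subgroup Y)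
      rw [← hg, Sylow.coe_subgroup_smul]
      have hconj : ∀ s, ψ (g * s * g⁻¹) (ψ g v) = ψ g (ψ s v) := fun s => by
        rw [← MulAut.mul_apply, ← map_mul, inv_mul_cancel_right, map_mul, MulAut.mul_apply]
      constructor
      · intro hv t ht
        obtain ⟨s, hs, rfl⟩ := (Subgroup.mem_smul_pointwise_iff_exists _ _ _).1 ht
        rw [MulAut.smul_def, MulAut.conj_apply, hconj, hv s hs]
      · intro hv s hs
        have h1 := hv (g * s * g⁻¹) ((Subgroup.mem_smul_pointwise_iff_exists _ _ _).2 ⟨s, hs, rfl⟩)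
        rw [hconj] at h1
        exact (ψ g).injective h1
    refine ⟨(Nat.card_congr ((ψ g).toEquiv.subtypeEquiv key)).symm,
      (Nat.card_congr ((ψ g).toEquiv.subtypeEquiv fun v => ⟨fun hv => ⟨hA g v hv.1, (key v).1 hv.2⟩,
        fun hv => ⟨?_, (key v).2 hv.2⟩⟩)).symm⟩
    have := hA g⁻¹ (ψ g v) hv.1
    rwa [← MulAut.mul_apply, ← map_mul, inv_mul_cancel, map_one, MulAut.one_apply] at this
  -- the partition
  let f : (Σ R : Sylow r Y, {v : M // v ∈ F R ∧ v ∉ A}) → {v : M // v ∉ A} :=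
    fun s => ⟨s.2.1, s.2.2.2⟩
  have hf : Function.Bijective f := by
    constructor
    · rintro ⟨R, v, hv⟩ ⟨R', v', hv'⟩ h
      have h1 : v = v' := congrArg Subtype.val h
      subst h1
      obtain rfl : R = R' := (hu v hv.2).unique hv.1 hv'.1
      rfl
    · rintro ⟨v, hv⟩
      obtain ⟨R, hR, -⟩ := hu v hv
      exact ⟨⟨R, v, hR, hv⟩, rfl⟩
  have hout : ∀ U : Subgroup M, Nat.card {v : M // v ∈ U ∧ v ∉ A} =
      Nat.card U - Nat.card (A ⊓ U : Subgroup M) := by
    intro U
    have h1 := Set.ncard_sdiff (s := ((A ⊓ U : Subgroup M) : Set M)) (t := (U : Set M))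
      (fun v hv => hv.2) (Set.toFinite _)
    have h2 : ((U : Set M) \ ((A ⊓ U : Subgroup M) : Set M)) = {v | v ∈ U ∧ v ∉ A} :=
      Set.ext fun v => ⟨fun h => ⟨h.1, fun h' => h.2 ⟨h', h.1⟩⟩, fun h => ⟨h.1, fun h' => h.2 h'.1⟩⟩
    rw [h2] at h1
    rw [← Nat.card_coe_set_eq, ← Nat.card_coe_set_eq, ← Nat.card_coe_set_eq] at h1
    exact h1
  have htop : Nat.card {v : M // v ∉ A} = Nat.card M - Nat.card A := by
    rw [show Nat.card {v : M // v ∉ A} = Nat.card {v : M // v ∈ (⊤ : Subgroup M) ∧ v ∉ A} from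
      Nat.card_congr (Equiv.subtypeEquivRight fun v => by simp), hout ⊤, Subgroup.card_top,
      inf_top_eq]
  have hcount := Nat.card_congr (Equiv.ofBijective f hf)
  haveI := Fintype.ofFinite (Sylow r Y)
  rw [Nat.card_sigma, htop] at hcount
  have hR : ∀ R, Nat.card {v : M // v ∈ F R ∧ v ∉ A} =
      Nat.card (F R₀) - Nat.card (A ⊓ F R₀ : Subgroup M) := fun R => by
    rw [hout (F R), (hsame R).1, (hsame R).2]
  rw [Finset.sum_congr rfl fun R _ => hR R, Finset.sum_const, Finset.card_univ,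
    ← Nat.card_eq_fintype_card, smul_eq_mul] at hcount
  -- exponents
  obtain ⟨k, hk⟩ := IsPGroup.iff_card.1 (hM.to_subgroup A)
  obtain ⟨e, he⟩ := hM.index A
  obtain ⟨b, hb⟩ := IsPGroup.iff_card.1 (hM.to_subgroup (A ⊓ F R₀))
  obtain ⟨c, hc⟩ : ∃ c, Nat.card (F R₀) = Nat.card (A ⊓ F R₀ : Subgroup M) * l ^ c := by
    obtain ⟨a, ha⟩ := IsPGroup.iff_card.1 (hM.to_subgroup (F R₀))
    refine ⟨a - b, ?_⟩
    have hba : b ≤ a := (Nat.pow_dvd_pow_iff_le_right hl.out.one_lt).1
      (hb ▸ ha ▸ Subgroup.card_dvd_of_le inf_le_right)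
    rw [hb, ha, ← pow_add, Nat.add_sub_cancel' hba]
  rw [← A.card_mul_index, he, hk, hc, hb] at hcount
  have he0 : 0 < e := by
    rcases Nat.eq_zero_or_pos e with rfl | h
    · exact absurd (Subgroup.index_eq_one.1 (by rw [he, pow_zero])) hA1
    · exact h
  have hsub : ∀ i j, l ^ i * l ^ j - l ^ i = l ^ i * (l ^ j - 1) := fun i j => by
    rw [Nat.mul_sub_one]
  rw [hsub, hsub, mul_left_comm] at hcount
  set n := Nat.card (Sylow r Y) with hn
  have hpos : 0 < l ^ e - 1 := Nat.sub_pos_of_lt (Nat.one_lt_pow he0.ne' hl.out.one_lt)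
  have hnl : Nat.Coprime l n :=
    hl.out.coprime_iff_not_dvd.2 fun hd =>
      hlY (hd.trans (R₀.card_dvd_index.trans (Subgroup.index_dvd_card _)))
  have hc0 : 0 < c := by
    rcases Nat.eq_zero_or_pos c with rfl | h
    · rw [pow_zero, Nat.sub_self, mul_zero, mul_zero] at hcount
      exact absurd hcount.symm (Nat.mul_pos (Nat.pow_pos hl.out.pos) hpos).ne'
    · exact h
  have hcop : ∀ i j, 0 < j → Nat.Coprime (l ^ i) (l ^ j - 1) := fun i j hj => by
    refine Nat.Coprime.pow_left i (hl.out.coprime_iff_not_dvd.2 fun hd => hl.out.ne_one ?_)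
    have h2 := Nat.dvd_sub (dvd_pow_self l hj.ne') hd
    rwa [Nat.sub_sub_self (Nat.one_le_pow _ _ hl.out.pos), Nat.dvd_one] at h2
  have hkb : l ^ b = l ^ k := Nat.dvd_antisymm
    ((hcop b e he0).dvd_of_dvd_mul_right (hcount ▸ dvd_mul_right _ _))
    ((Nat.Coprime.mul_right (hnl.pow_left k) (hcop k c hc0)).dvd_of_dvd_mul_right
      (hcount.symm ▸ dvd_mul_right _ _))
  rw [hkb] at hcount
  refine ⟨e, c, he0, hc0, he, Nat.eq_of_mul_eq_mul_left (Nat.pow_pos hl.out.pos) hcount, fun R => ?_⟩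
  have hAle : A ≤ F R := by
    have h1 : Nat.card A ≤ Nat.card (A ⊓ F R : Subgroup M) := by
      rw [(hsame R).2, hb, hk, hkb]
    exact (Subgroup.eq_of_le_of_card_ge inf_le_left h1).ge.trans inf_le_right
  exact ⟨hAle, by rw [show fixSub ψ (R : Subgroup Y) = F R from rfl, (hsame R).1, hc, hb, hk, hkb]⟩

variable {l q r : ℕ} [hl : Fact l.Prime] [hq : Fact q.Prime] [hr : Fact r.Prime]
  (ψ : Y →* MulAut M)

omit [Finite M] in
/-- A prime not dividing the image: the Sylow subgroups act trivially. -/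
theorem sylow_le_ker [Finite M] (h : ¬ q ∣ Nat.card ψ.range) (Q : Sylow q Y) :
    (Q : Subgroup Y) ≤ ψ.ker := by
  intro g hg
  obtain ⟨k, hk⟩ := Q.2 ⟨g, hg⟩
  have h1 : orderOf (ψ g) ∣ q ^ k := by
    refine (orderOf_map_dvd ψ g).trans (orderOf_dvd_of_pow_eq_one ?_)
    exact congrArg Subtype.val hk
  have h2 : orderOf (ψ g) ∣ Nat.card ψ.range := by
    have := orderOf_dvd_natCard (⟨ψ g, g, rfl⟩ : ψ.range)
    rwa [← Subgroup.orderOf_coe] at this
  exact MonoidHom.mem_ker.2 (orderOf_eq_one_iff.1 (Nat.eq_one_of_dvd_coprimes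
    ((hq.out.coprime_iff_not_dvd.2 h).pow_left k) h1 h2))

/-- A prime dividing the image: no Sylow subgroup acts trivially. -/
theorem not_sylow_le_ker (h : q ∣ Nat.card ψ.range) (Q : Sylow q Y) :
    ¬ (Q : Subgroup Y) ≤ ψ.ker := fun hle =>
  Q.not_dvd_index (((Subgroup.index_ker ψ).symm ▸ h).trans (Subgroup.index_dvd_of_le hle))

/-- A Sylow subgroup acting trivially is normal and abelian. -/
theorem normal_of_le_ker (hker : ∀ Q : Sylow q Y, (Q : Subgroup Y) ≤ ψ.ker) {v : M}
    (hs : StabSylow q (stab ψ v)) (Q : Sylow q Y) :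
    (Q : Subgroup Y).Normal ∧ ∀ a ∈ (Q : Subgroup Y), ∀ b ∈ (Q : Subgroup Y), a * b = b * a := by
  obtain ⟨Q₀, -, -, hc, hu⟩ := hs
  have hall : ∀ Q' : Sylow q Y, Q' = Q₀ := fun Q' => hu Q' fun g hg =>
    show ψ g v = v by rw [MonoidHom.mem_ker.1 (hker Q' hg)]; rfl
  haveI : Subsingleton (Sylow q Y) := ⟨fun a b => (hall a).trans (hall b).symm⟩
  rw [hall Q]
  exact ⟨Q₀.normal_of_subsingleton, hc⟩

/-- The partitioned module of the image is impossible. -/
theorem range_false {M : Type u} [CommGroup M] [Finite M] (ψ : Y →* MulAut M)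
    [Group.IsSolvable Y] {d : ℕ} (hexp : ∀ a : M, a ^ l = 1)
    (hcard : Nat.card M = l ^ d) (hd : 0 < d)
    (hirr : ∀ U : Subgroup M, (∀ g, ∀ v ∈ U, ψ g v ∈ U) → U = ⊥ ∨ U = ⊤)
    (hqd : q ∣ Nat.card ψ.range) (hrd : r ∣ Nat.card ψ.range)
    (hSq : ∀ v : M, v ≠ 1 → StabSylow q (stab ψ v)) (hSr : ∀ v : M, v ≠ 1 → StabSylow r (stab ψ v))
    (hdeg : NoEdge Y q r) (hqr : q ≠ r) : False := by
  haveI : Group.IsSolvable ψ.range :=
    Group.isSolvable_of_surjective ψ.rangeRestrict_surjective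
  have part : ∀ {t : ℕ} [Fact t.Prime], t ∣ Nat.card ψ.range →
      (∀ v : M, v ≠ 1 → StabSylow t (stab ψ v)) → Part ψ.range.subtype t := by
    intro t _ htd hS
    refine ⟨htd, fun v hv => ?_⟩
    obtain ⟨Q, hQ, hu⟩ := (hS v hv).existsUnique
    refine ⟨Q.mapSurjective ψ.rangeRestrict_surjective, ?_, fun R hR => ?_⟩
    · rintro g hg
      obtain ⟨y, hy, rfl⟩ := Subgroup.mem_map.1 hg
      exact hQ y hy
    · obtain ⟨Q', rfl⟩ := Sylow.mapSurjective_surjective ψ.rangeRestrict_surjective t R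
      rw [hu Q' fun y hy => hR _ (Subgroup.mem_map.2 ⟨y, hy, rfl⟩)]
  refine Setting.false (l := l) (d := d) ψ.range.subtype ⟨Subtype.val_injective, hexp, hcard, hd,
    fun U hU => hirr U fun g => hU ⟨ψ g, g, rfl⟩, part hqd hSq, part hrd hSr,
    hdeg.of_surjective _ ψ.rangeRestrict_surjective⟩ hqr

end Action

end CfsgLib.ThreePrimes
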