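import Cfsg.Agent.Lib.PGroup.HallHigmanOdd
import Cfsg.Agent.Lib.Transfer.HallHigmanB
import Cfsg.Agent.Lib.Solvable.ShultGross

/-!
# Elements of large order in a linear group

An element `y` of odd prime power order `z ^ n` acting faithfully on an elementary abelian group of
order `l ^ d` with `d < z ^ n` normalises a `t`-group (`t ≠ z, l`): outside the exceptional case
`t = 2`, `z ^ m = 2 ^ e + 1`, `z ^ (n - m) * 2 ^ e ≤ d` its power of order `z` centralises the
`t`-group.
-/

set_option autoImplicit false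

open scoped Classical

namespace CfsgLib.ThreePrimes

open Module CfsgLib.Solvable

universe u v

theorem exists_end_rep_aux (A : Type v) [CommGroup A] [Finite A] (l d : ℕ) [hl : Fact l.Prime]
    [Module (ZMod l) (Additive A)] (hcard : Nat.card A = l ^ d) :
    ∃ f : MulAut A →* Module.End (AlgebraicClosure (ZMod l)) (Fin d → AlgebraicClosure (ZMod l)),
      Function.Injective f := by
  haveI : Finite (Additive A) := Finite.of_equiv A Additive.ofMul
  haveI : Module.Finite (ZMod l) (Additive A) := Module.Finite.of_finite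
  have hd : Module.finrank (ZMod l) (Additive A) = d := by
    have h := Module.natCard_eq_pow_finrank (K := ZMod l) (V := Additive A)
    rw [Nat.card_zmod, ← Nat.card_congr (Additive.ofMul (α := A)), hcard] at h
    exact (Nat.pow_right_injective hl.out.two_le h).symm
  let K := AlgebraicClosure (ZMod l)
  let B := (Module.finBasis (ZMod l) (Additive A)).reindex (finCongr hd)
  let g : Module.End (ZMod l) (Additive A) →+* Module.End K (Fin d → K) :=
    ((Matrix.toLinAlgEquiv' : Matrix (Fin d) (Fin d) K ≃ₐ[K] _).toRingEquiv.toRingHom).comp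
      (((algebraMap (ZMod l) K).mapMatrix).comp (LinearMap.toMatrixAlgEquiv B).toRingEquiv.toRingHom)
  have hg : Function.Injective g :=
    (Matrix.toLinAlgEquiv' : Matrix (Fin d) (Fin d) K ≃ₐ[K] _).injective.comp
      ((Matrix.map_injective (algebraMap (ZMod l) K).injective).comp
        (LinearMap.toMatrixAlgEquiv B).injective)
  refine ⟨(g : _ →* _).comp (zmodAut l), fun a b hab => MulEquiv.ext fun x => ?_⟩
  have h := LinearMap.congr_fun (hg hab) (Additive.ofMul x)
  rw [zmodAut_apply, zmodAut_apply] at h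
  exact Additive.ofMul.injective h

/-- A faithful representation of the dimension of the group over the algebraic closure. -/
theorem exists_end_rep (A : Type v) [CommGroup A] [Finite A] (l d : ℕ) [hl : Fact l.Prime]
    (hexp : ∀ a : A, a ^ l = 1) (hcard : Nat.card A = l ^ d) :
    ∃ f : MulAut A →* Module.End (AlgebraicClosure (ZMod l)) (Fin d → AlgebraicClosure (ZMod l)),
      Function.Injective f := by
  have h0 : ∀ v : Additive A, l • v = 0 := fun v => Additive.toMul.injective (by
    rw [toMul_nsmul, toMul_zero]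
    exact hexp _)
  exact @exists_end_rep_aux A _ _ l d _ (AddCommGroup.zmodModule h0) hcard

/-- More roots of unity than the dimension: one of them is not an eigenvalue. -/
theorem exists_missing_root {k : Type*} [Field k] [IsAlgClosed k] {W : Type*} [AddCommGroup W]
    [Module k W] [FiniteDimensional k W] {N : ℕ} (hN : (N : k) ≠ 0) (hd : finrank k W < N)
    (S : Module.End k W) : ∃ β : k, β ^ N = 1 ∧ ∀ v, S v = β • v → v = 0 := by
  haveI : NeZero (N : k) := ⟨hN⟩
  obtain ⟨ζ, hζ⟩ := HasEnoughRootsOfUnity.exists_primitiveRoot k N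
  by_contra hcon
  push Not at hcon
  choose w hw hw0 using fun i : Fin N => hcon (ζ ^ (i : ℕ)) (by
    rw [← pow_mul, mul_comm, pow_mul, hζ.pow_eq_one, one_pow])
  have hli : LinearIndependent k w :=
    Module.End.eigenvectors_linearIndependent' S (fun i : Fin N => ζ ^ (i : ℕ))
      (fun i j h => Fin.ext (hζ.pow_inj i.2 j.2 h)) w
      fun i => ⟨Module.End.mem_eigenspace_iff.2 (hw i), hw0 i⟩
  have := hli.fintype_card_le_finrank
  rw [Fintype.card_fin] at this
  omega

variable {X : Type u} [Group X] [Finite X] {V : Type v} [CommGroup V] [Finite V] {l d : ℕ}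
  [hl : Fact l.Prime] (φ : X →* MulAut V)

/-- The power of order `z` of a large element centralises the `t`-groups it normalises. -/
theorem commute_or_exceptional (hφ : Function.Injective φ) (hexp : ∀ a : V, a ^ l = 1)
    (hcard : Nat.card V = l ^ d) {z t n : ℕ} [hz : Fact z.Prime] [ht : Fact t.Prime] (hz2 : z ≠ 2)
    (htz : t ≠ z) (htl : t ≠ l) (hzl : z ≠ l) (hdz : d < z ^ n) (T : Subgroup X) (hT : IsPGroup t T)
    {y : X} (hy : y ^ (z ^ n) = 1) (hyT : y ∈ Subgroup.normalizer (T : Set X)) :
    (∀ a ∈ T, Commute (y ^ (z ^ (n - 1))) a) ∨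
      (t = 2 ∧ ∃ m e, 0 < m ∧ m ≤ n ∧ z ^ m = 2 ^ e + 1 ∧ z ^ (n - m) * 2 ^ e ≤ d) := by
  by_contra hcon
  push Not at hcon
  obtain ⟨⟨a, ha, hna⟩, hex⟩ := hcon
  obtain ⟨f, hf⟩ := exists_end_rep V l d hexp hcard
  let k := AlgebraicClosure (ZMod l)
  have hne : ∀ {m : ℕ}, m.Prime → m ≠ l → (m : k) ≠ 0 := fun hm hml h =>
    hml (((Nat.prime_dvd_prime_iff_eq hl.out hm).1 ((CharP.cast_eq_zero_iff k l _).1 h)).symm)
  have hfin : finrank k (Fin d → k) = d := Module.finrank_fin_fun k
  obtain ⟨β, hβ, hmiss⟩ := exists_missing_root (k := k) (N := z ^ n)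
    (by rw [Nat.cast_pow]; exact pow_ne_zero _ (hne hz.out hzl)) (by rw [hfin]; exact hdz) (f (φ y))
  have hβ0 : β ≠ 0 := fun h => by
    rw [h, zero_pow (pow_pos hz.out.pos n).ne'] at hβ
    exact zero_ne_one hβ
  let ρ : T →* Module.End k (Fin d → k) := (f.comp φ).comp T.subtype
  let σ : MulAut T := Subgroup.normalizerMonoidHom T ⟨y, hyT⟩
  have hσ : σ ^ (z ^ n) = 1 := by
    rw [← map_pow, show (⟨y, hyT⟩ : ↥(Subgroup.normalizer (T : Set X))) ^ (z ^ n) = 1 from
      Subtype.ext hy, map_one]
  let S := β⁻¹ • f (φ y)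
  have hSn : S ^ (z ^ n) = 1 := by
    rw [smul_pow, inv_pow, hβ, inv_one, one_smul, ← map_pow, ← map_pow, hy, map_one, map_one]
  have hS : ∀ x, S * ρ x = ρ (σ x) * S := fun x => by
    show β⁻¹ • f (φ y) * f (φ (x : X)) = f (φ (y * (x : X) * y⁻¹)) * β⁻¹ • f (φ y)
    rw [smul_mul_assoc, mul_smul_comm, ← map_mul, ← map_mul, ← map_mul, ← map_mul,
      inv_mul_cancel_right]
  have hfix : ∀ v, S v = v → v = 0 := fun v hv => hmiss v (by
    have h := congrArg (fun w => β • w) hv
    simp only [S, LinearMap.smul_apply, smul_smul, mul_inv_cancel₀ hβ0, one_smul] at h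
    exact h)
  have h := CfsgLib.PGroup.hall_higman_exceptional_bound (k := k) (p := z) (q := t) (n := n) hz2
    (fun m e hm hmn ht2 hle he => (hex ht2 m e hm hmn he).not_ge (hfin ▸ hle)) htz
    (hne ht.out htl) (hne hz.out hzl) hT σ hσ ρ S hS hSn hfix ⟨a, ha⟩
  have h1 : ((σ ^ (z ^ (n - 1))) ⟨a, ha⟩ : X) = a := hφ (hf h)
  refine hna ?_
  rw [← map_pow] at h1
  have h2 : y ^ (z ^ (n - 1)) * a * (y ^ (z ^ (n - 1)))⁻¹ = a := h1
  exact mul_inv_eq_iff_eq_mul.1 h2

/-- An element of prime order above `d + 1` centralises every coprime `t`-group it normalises. -/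
theorem commute_of_large (hφ : Function.Injective φ) (hexp : ∀ a : V, a ^ l = 1)
    (hcard : Nat.card V = l ^ d) {z t : ℕ} [hz : Fact z.Prime] [ht : Fact t.Prime]
    (hdz : d + 1 < z) (htz : t ≠ z) (htl : t ≠ l) (T : Subgroup X) (hT : IsPGroup t T) {y : X}
    (hy : y ^ z = 1) (hyT : y ∈ Subgroup.normalizer (T : Set X)) : ∀ a ∈ T, Commute y a := by
  rcases Nat.eq_zero_or_pos d with rfl | hd0
  · haveI : Subsingleton V := (Nat.card_eq_one_iff_unique.1 (by rw [hcard, pow_zero])).1
    exact fun a _ => hφ (MulEquiv.ext fun v => Subsingleton.elim _ _)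
  haveI : NeZero d := ⟨hd0.ne'⟩
  by_cases hzl : z = l
  · subst hzl
    intro a ha
    by_contra hna
    obtain ⟨f, hf⟩ := exists_end_rep V z d hexp hcard
    let k := AlgebraicClosure (ZMod z)
    let σ : MulAut T := Subgroup.normalizerMonoidHom T ⟨y, hyT⟩
    have hσ : σ ^ (z ^ 1) = 1 := by
      rw [pow_one, ← map_pow, show (⟨y, hyT⟩ : ↥(Subgroup.normalizer (T : Set X))) ^ z = 1 from
        Subtype.ext hy, map_one]
    have hmoved : ∃ b, (σ ^ (z ^ (1 - 1))) b ≠ b := ⟨⟨a, ha⟩, fun h => hna (by
      rw [Nat.sub_self, pow_zero, pow_one] at h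
      exact mul_inv_eq_iff_eq_mul.1 (congrArg Subtype.val h))⟩
    let ρ : T →* Module.End k (Fin d → k) := (f.comp φ).comp T.subtype
    let S := f (φ y)
    have hS : ∀ x, S * ρ x = ρ (σ x) * S := fun x => by
      show f (φ y) * f (φ (x : X)) = f (φ (y * (x : X) * y⁻¹)) * f (φ y)
      rw [← map_mul, ← map_mul, ← map_mul, ← map_mul, inv_mul_cancel_right]
    have hSn : S ^ (z ^ 1) = 1 := by
      rw [pow_one, ← map_pow, ← map_pow, hy, map_one, map_one]
    haveI : CharP (Module.End k (Fin d → k)) z :=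
      charP_of_injective_algebraMap (algebraMap k (Module.End k (Fin d → k))).injective z
    have hnil : IsNilpotent (S - 1) := ⟨z, by
      have hSz : S ^ z = 1 := by rwa [pow_one] at hSn
      rw [sub_pow_char_of_commute (p := z) (h := Commute.one_right S), one_pow, hSz, sub_self]⟩
    have he : (S - 1) ^ d = 0 := by
      have h1 := hnil.charpoly_eq_X_pow_finrank
      have h2 := LinearMap.aeval_self_charpoly (S - 1)
      rw [h1, map_pow, Polynomial.aeval_X, Module.finrank_fin_fun] at h2
      exact h2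
    have hinj : Function.Injective ρ := (hf.comp hφ).comp Subtype.val_injective
    rcases CfsgLib.Transfer.HHB.hall_higman_b (k := k) (p := z) (q := t) (n := 1) htz one_pos
      _ rfl hT σ hσ hmoved ρ hinj S hS hSn d he with h | ⟨-, n₀, m, h1, h2, -, -, h3⟩
    · rw [pow_one] at h; omega
    · obtain rfl : n₀ = 1 := by omega
      rw [Nat.sub_self, pow_zero, pow_one, one_mul] at h3
      omega
  have hz2 : z ≠ 2 := by omega
  rcases commute_or_exceptional φ hφ hexp hcard (n := 1) hz2 htz htl hzl (by rw [pow_one]; omega)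
    T hT (by rw [pow_one]; exact hy) hyT with h | ⟨-, m, e, hm0, hm, he, hle⟩
  · intro a ha
    have := h a ha
    rwa [Nat.sub_self, pow_zero, pow_one] at this
  · obtain rfl : m = 1 := by omega
    rw [Nat.sub_self, pow_zero, one_mul] at hle
    rw [pow_one] at he
    omega

end CfsgLib.ThreePrimes
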