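import Cfsg.Agent.Lib.ThreePrimes.HH
import Cfsg.Agent.Lib.Solvable.Fitting
import Cfsg.Agent.Lib.Cores.Fitting
import Cfsg.Agent.Lib.PGroup.AbelianConjSylow

/-!
# An element of primitive prime divisor order in a linear group

`z` divides `l ^ d - 1` and no `l ^ i - 1` with `0 < i < d`: an element of order `z` acts
irreducibly, its centraliser is cyclic.
-/

set_option autoImplicit false

open scoped Classical

namespace CfsgLib.ThreePrimes

open Cfsg

universe u v

/-- A `p`-group acting on an invariant subgroup: the order is congruent to the fixed points. -/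
theorem card_modEq_fixed {P : Type u} [Group P] {p : ℕ} [hp : Fact p.Prime] (hP : IsPGroup p P)
    {A : Type v} [Group A] [Finite A] (ψ : P →* MulAut A) (U : Subgroup A)
    (hU : ∀ g : P, ∀ u ∈ U, ψ g u ∈ U) :
    Nat.card U ≡ Nat.card {u : A // u ∈ U ∧ ∀ g : P, ψ g u = u} [MOD p] := by
  letI : MulAction P U :=
    { smul := fun g u => ⟨ψ g u, hU g u u.2⟩
      one_smul := fun u => Subtype.ext (by show ψ 1 (u : A) = u; rw [map_one]; rfl)
      mul_smul := fun g h u => Subtype.ext (by
        show ψ (g * h) (u : A) = ψ g (ψ h u); rw [map_mul]; rfl) }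
  refine (hP.card_modEq_card_fixedPoints U).trans (congrArg (· % p) (Nat.card_congr ?_))
  exact
    { toFun := fun u => ⟨(u : U), (u : U).2, fun g => congrArg Subtype.val (u.2 g)⟩
      invFun := fun u => ⟨⟨u.1, u.2.1⟩, fun g => Subtype.ext (u.2.2 g)⟩
      left_inv := fun _ => rfl
      right_inv := fun _ => rfl }

theorem prime_pow_card_le {A : Type v} [Group A] [Finite A] {l d : ℕ} [hl : Fact l.Prime]
    (hcard : Nat.card A = l ^ d) (U : Subgroup A) : ∃ j, j ≤ d ∧ Nat.card U = l ^ j :=
  (Nat.dvd_prime_pow hl.out).1 (hcard ▸ U.card_subgroup_dvd_card)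

variable {X : Type u} [Group X] [Finite X] {V : Type v} [CommGroup V] [Finite V] {l d z : ℕ}
  [hl : Fact l.Prime] [hz : Fact z.Prime] (φ : X →* MulAut V)

/-- The fixed points of a set of elements. -/
def fixSub {X : Type u} [Group X] {V : Type v} [Group V] (φ : X →* MulAut V) (T : Subgroup X) :
    Subgroup V where
  carrier := {v | ∀ g ∈ T, φ g v = v}
  one_mem' := fun g _ => map_one _
  mul_mem' := fun ha hb g hg => by rw [map_mul, ha g hg, hb g hg]
  inv_mem' := fun ha g hg => by rw [map_inv, ha g hg]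

theorem mem_fixSub {T : Subgroup X} {v : V} : v ∈ fixSub φ T ↔ ∀ g ∈ T, φ g v = v := Iff.rfl

omit [Finite X] [Finite V] in
theorem fixSub_invariant {T : Subgroup X} {g : X} (hg : g ∈ Subgroup.normalizer (T : Set X))
    {v : V} (hv : v ∈ fixSub φ T) : φ g v ∈ fixSub φ T := by
  intro t ht
  have h1 : g⁻¹ * t * g ∈ T := by
    have := (Subgroup.mem_normalizer_iff.1 (inv_mem hg) t).1 ht
    rwa [inv_inv] at this
  have h2 := hv _ h1
  calc φ t (φ g v) = φ (t * g) v := by rw [map_mul]; rfl
    _ = φ (g * (g⁻¹ * t * g)) v := by group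
    _ = φ g v := by rw [map_mul, MulAut.mul_apply, h2]

/-- Invariant subgroups of an element of primitive prime divisor order are trivial. -/
theorem irreducible_of_primitive (hφ : Function.Injective φ) (hcard : Nat.card V = l ^ d)
    (hzd : z ∣ l ^ d - 1) (hzi : ∀ i, 1 ≤ i → i < d → ¬ z ∣ l ^ i - 1)
    {x : X} (hx : orderOf x = z) (U : Subgroup V) (hU : ∀ u ∈ U, φ x u ∈ U) :
    U = ⊥ ∨ U = ⊤ := by
  have hzl : ¬ z ∣ l := fun h => by
    have h1 : 1 ≤ l ^ d := Nat.one_le_pow _ _ hl.out.pos
    rcases Nat.eq_zero_or_pos d with rfl | hd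
    · exact hz.out.ne_one (Nat.dvd_one.1 (by
        have hV : Nat.card V = 1 := by rw [hcard, pow_zero]
        haveI := (Nat.card_eq_one_iff_unique.1 hV).1
        have : x = 1 := hφ (MulEquiv.ext fun v => Subsingleton.elim _ _)
        rw [this, orderOf_one] at hx
        exact hx ▸ dvd_rfl))
    · have h2 := Nat.dvd_sub (h.trans (dvd_pow_self l hd.ne')) hzd
      rw [Nat.sub_sub_self h1, Nat.dvd_one] at h2
      exact hz.out.ne_one h2
  let ψ := φ.comp (Subgroup.zpowers x).subtype
  have hP : IsPGroup z (Subgroup.zpowers x) :=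
    IsPGroup.of_card (n := 1) (by rw [Nat.card_zpowers, hx, pow_one])
  have hpow : ∀ (W : Subgroup V), (∀ w ∈ W, φ x w ∈ W) →
      ∀ g : Subgroup.zpowers x, ∀ w ∈ W, ψ g w ∈ W := by
    intro W hW g w hw
    obtain ⟨k, hk⟩ := (Submonoid.mem_powers_iff _ _).1 (mem_powers_iff_mem_zpowers.2 g.2)
    show φ (g : X) w ∈ W
    rw [← hk]
    clear hk
    induction k with
    | zero => rw [pow_zero, map_one]; exact hw
    | succ k ih => rw [pow_succ', map_mul]; exact hW _ ih
  -- no fixed points
  have hF : fixSub φ (Subgroup.zpowers x) = ⊥ := by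
    set F := fixSub φ (Subgroup.zpowers x) with hFdef
    obtain ⟨j, hj, hFc⟩ := prime_pow_card_le hcard F
    have h := card_modEq_fixed hP ψ ⊤ (fun _ _ _ => Subgroup.mem_top _)
    rw [Subgroup.card_top, hcard, show Nat.card {u : V // u ∈ (⊤ : Subgroup V) ∧ ∀ g, ψ g u = u} =
      Nat.card F from Nat.card_congr (Equiv.subtypeEquivRight fun u =>
        ⟨fun h g hg => h.2 ⟨g, hg⟩, fun h => ⟨Subgroup.mem_top _, fun g => h g g.2⟩⟩), hFc] at h
    have h1 := (Nat.modEq_iff_dvd' (Nat.pow_le_pow_right hl.out.pos hj)).1 h.symm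
    rw [show l ^ d - l ^ j = l ^ j * (l ^ (d - j) - 1) by
      rw [Nat.mul_sub, ← pow_add, Nat.add_sub_cancel' hj, mul_one]] at h1
    have h2 : z ∣ l ^ (d - j) - 1 := (hz.out.dvd_mul.1 h1).resolve_left fun h3 =>
      hzl (hz.out.dvd_of_dvd_pow h3)
    rcases Nat.eq_zero_or_pos j with rfl | hj0
    · exact Subgroup.eq_bot_of_card_eq _ (by rw [hFc, pow_zero])
    exfalso
    rcases Nat.eq_zero_or_pos (d - j) with hdj | hdj
    · have htop : F = ⊤ := Subgroup.eq_top_of_card_eq _ (by
        rw [hFc, hcard, show j = d by omega])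
      have : x = 1 := hφ (MulEquiv.ext fun v => by
        rw [map_one]
        exact (htop ▸ Subgroup.mem_top v : v ∈ F) x (Subgroup.mem_zpowers x))
      rw [this, orderOf_one] at hx
      exact hz.out.ne_one hx.symm
    · exact hzi (d - j) hdj (by omega) h2
  obtain ⟨j, hj, hUc⟩ := prime_pow_card_le hcard U
  have h := card_modEq_fixed hP ψ U (hpow U hU)
  have h1 : Nat.card {u : V // u ∈ U ∧ ∀ g, ψ g u = u} = 1 := by
    refine Nat.card_eq_one_iff_unique.2 ⟨⟨fun a b => Subtype.ext ?_⟩,
      ⟨⟨1, U.one_mem, fun g => map_one _⟩⟩⟩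
    have key : ∀ c : {u : V // u ∈ U ∧ ∀ g, ψ g u = u}, (c : V) = 1 := fun c => by
      have hc : (c : V) ∈ fixSub φ (Subgroup.zpowers x) := fun g hg => c.2.2 ⟨g, hg⟩
      rwa [hF, Subgroup.mem_bot] at hc
    rw [key a, key b]
  rw [h1, hUc] at h
  have h2 := (Nat.modEq_iff_dvd' (Nat.one_le_pow _ _ hl.out.pos)).1 h.symm
  rcases Nat.eq_zero_or_pos j with rfl | hj0
  · exact Or.inl (Subgroup.eq_bot_of_card_eq _ (by rw [hUc, pow_zero]))
  · refine Or.inr (Subgroup.eq_top_of_card_eq _ ?_)
    rcases hj.lt_or_eq with hlt | rfl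
    · exact absurd h2 (hzi j hj0 hlt)
    · rw [hUc, hcard]

/-- The centraliser of an element of primitive prime divisor order is cyclic. -/
theorem isCyclic_centralizer (hφ : Function.Injective φ) (hcard : Nat.card V = l ^ d)
    (hzd : z ∣ l ^ d - 1) (hzi : ∀ i, 1 ≤ i → i < d → ¬ z ∣ l ^ i - 1)
    {x : X} (hx : orderOf x = z) : IsCyclic (Subgroup.centralizer ({x} : Set X)) := by
  have hnt : Nontrivial V := by
    by_contra hV
    rw [not_nontrivial_iff_subsingleton] at hV
    have : x = 1 := hφ (MulEquiv.ext fun v => Subsingleton.elim _ _)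
    rw [this, orderOf_one] at hx
    exact hz.out.ne_one hx.symm
  let toEnd : X →* AddMonoid.End (Additive V) :=
    { toFun := fun g => MonoidHom.toAdditive (φ g).toMonoidHom
      map_one' := by rw [map_one]; rfl
      map_mul' := fun g h => by rw [map_mul]; rfl }
  have htoEnd : Function.Injective toEnd := fun g h hgh => hφ (MulEquiv.ext fun v =>
    Additive.ofMul.injective (DFunLike.congr_fun hgh (Additive.ofMul v)))
  let R : Subring (AddMonoid.End (Additive V)) := Subring.centralizer {toEnd x}
  haveI : Finite (Additive V) := Finite.of_equiv V Additive.ofMul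
  haveI : Finite (AddMonoid.End (Additive V)) :=
    Finite.of_injective (fun f : AddMonoid.End (Additive V) => (f : Additive V → Additive V))
      DFunLike.coe_injective
  have hinj : ∀ f : R, f ≠ 0 → ∀ v, (f : AddMonoid.End (Additive V)) v = 0 → v = 0 := by
    intro f hf v hv
    let U : Subgroup V :=
      { carrier := {u | (f : AddMonoid.End (Additive V)) (Additive.ofMul u) = 0}
        one_mem' := map_zero (f : AddMonoid.End (Additive V))
        mul_mem' := fun {a b} ha hb => by
          show (f : AddMonoid.End (Additive V)) (Additive.ofMul a + Additive.ofMul b) = 0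
          rw [map_add, ha, hb, add_zero]
        inv_mem' := fun {a} ha => by
          show (f : AddMonoid.End (Additive V)) (-Additive.ofMul a) = 0
          rw [map_neg, ha, neg_zero] }
    have hUx : ∀ u ∈ U, φ x u ∈ U := fun u hu => by
      have h1 := DFunLike.congr_fun (Subring.mem_centralizer_iff.1 f.2 _ rfl) (Additive.ofMul u)
      show (f : AddMonoid.End (Additive V)) (toEnd x (Additive.ofMul u)) = 0
      refine h1.symm.trans ?_
      show toEnd x ((f : AddMonoid.End (Additive V)) (Additive.ofMul u)) = 0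
      rw [show (f : AddMonoid.End (Additive V)) (Additive.ofMul u) = 0 from hu, map_zero]
    rcases irreducible_of_primitive φ hφ hcard hzd hzi hx U hUx with h | h
    · have h1 : v.toMul ∈ U := hv
      rw [h, Subgroup.mem_bot] at h1
      exact Additive.toMul.injective h1
    · exact absurd (Subtype.ext (AddMonoidHom.ext fun w =>
        (h ▸ Subgroup.mem_top w.toMul : w.toMul ∈ U))) hf
  haveI : Nontrivial R := by
    refine ⟨⟨1, 0, fun h => ?_⟩⟩
    obtain ⟨v, hv⟩ := exists_ne (1 : V)
    exact hv (Additive.ofMul.injective (DFunLike.congr_fun (congrArg Subtype.val h) (Additive.ofMul v)))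
  haveI : NoZeroDivisors R := ⟨fun {a b} hab => or_iff_not_imp_left.2 fun ha =>
    Subtype.ext (AddMonoidHom.ext fun v => hinj a ha _
      (DFunLike.congr_fun (congrArg Subtype.val hab) v))⟩
  haveI : IsDomain R := NoZeroDivisors.to_isDomain R
  letI : CommRing R :=
    { (inferInstance : Ring R) with mul_comm := (Finite.isDomain_to_isField R).mul_comm }
  let ψ : Subgroup.centralizer ({x} : Set X) →* R :=
    { toFun := fun g => ⟨toEnd g, Subring.mem_centralizer_iff.2 fun f hf => by
        rw [Set.mem_singleton_iff] at hf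
        rw [hf, ← map_mul, ← map_mul, Subgroup.mem_centralizer_singleton_iff.1 g.2]⟩
      map_one' := Subtype.ext (map_one toEnd)
      map_mul' := fun g h => Subtype.ext (map_mul toEnd (g : X) h) }
  exact isCyclic_of_subgroup_isDomain ψ fun g h hgh =>
    Subtype.ext (htoEnd (congrArg Subtype.val hgh))

end CfsgLib.ThreePrimes
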