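import Cfsg.Agent.Lib.ThreePrimes.CaseB

/-!
# Among three primes dividing degrees of a solvable group two are linked
-/

set_option autoImplicit false

open scoped Classical commutatorElement

namespace CfsgLib.ThreePrimes

open Cfsg CfsgLib.Char CfsgLib.CharNormal CfsgLib.ThreeDeg

universe u

/-- The minimal normal subgroup whose quotient loses the first prime. -/
theorem false_of_quotient {G : Type u} [Group G] [Finite G] [Group.IsSolvable G] (N : Subgroup G)
    [N.Normal] {l d : ℕ} [hl : Fact l.Prime] (hab : ∀ a ∈ N, ∀ b ∈ N, a * b = b * a)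
    (hexp : ∀ x ∈ N, x ^ l = 1) (hcard : Nat.card N = l ^ d) (hd : 0 < d)
    (hmin : ∀ M : Subgroup G, M.Normal → M ≤ N → M = ⊥ ∨ M = N)
    {s q r : ℕ} [hs : Fact s.Prime] [hq : Fact q.Prime] [hr : Fact r.Prime] (hsq : s ≠ q)
    (hsr : s ≠ r) (hqr : q ≠ r)
    (hlost : ∀ χ : Cfsg.IrrCharacter (G ⧸ N), ¬ s ∣ Cfsg.charDegree (χ : G ⧸ N → ℂ))
    (hsd : ∃ χ : Cfsg.IrrCharacter G, s ∣ Cfsg.charDegree (χ : G → ℂ))
    (hqd : ∃ χ : Cfsg.IrrCharacter G, q ∣ Cfsg.charDegree (χ : G → ℂ))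
    (hrd : ∃ χ : Cfsg.IrrCharacter G, r ∣ Cfsg.charDegree (χ : G → ℂ))
    (hsq' : NoEdge G s q) (hsr' : NoEdge G s r) (hqr' : NoEdge G q r) : False := by
  haveI : Group.IsSolvable (G ⧸ N) :=
    Group.isSolvable_of_surjective (QuotientGroup.mk'_surjective N)
  obtain ⟨S⟩ := (inferInstance : Nonempty (Sylow s G))
  obtain ⟨hn, hc⟩ := CfsgLib.BlockArith.sylow_normal_abelian (Nat.card (G ⧸ N)) (G ⧸ N) rfl
    (Or.inl inferInstance) hlost (S.mapSurjective (QuotientGroup.mk'_surjective N))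
  have hM : ((S : Subgroup G) ⊔ N).Normal := by
    have h1 : ((S : Subgroup G).map (QuotientGroup.mk' N)).Normal := hn
    have h2 := h1.comap (QuotientGroup.mk' N)
    rwa [Subgroup.comap_map_eq, QuotientGroup.ker_mk'] at h2
  have hSS : ∀ a ∈ (S : Subgroup G), ∀ b ∈ (S : Subgroup G), ⁅a, b⁆ ∈ N := by
    intro a ha b hb
    have h1 := hc (QuotientGroup.mk' N a) (Subgroup.mem_map_of_mem _ ha)
      (QuotientGroup.mk' N b) (Subgroup.mem_map_of_mem _ hb)
    rw [← commutatorElement_eq_one_iff_mul_comm, ← map_commutatorElement] at h1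
    exact (QuotientGroup.eq_one_iff _).1 h1
  by_cases hsl : s = l
  · subst hsl
    exact case_b N hab hexp hcard hd hmin hsq hsr hqr hsd hqd hrd hsq' hsr' hqr' S hM hSS
  · exact case_a N hab hexp hcard hd hmin hqr hsd hqd hrd hsq' hsr' hqr' S hM hSS hsl

theorem no_three (n : ℕ) : ∀ (G : Type u) [Group G] [Finite G] [Group.IsSolvable G],
    Nat.card G = n → ∀ p q r : ℕ, p.Prime → q.Prime → r.Prime → p ≠ q → q ≠ r → p ≠ r →
    (∃ χ : Cfsg.IrrCharacter G, p ∣ Cfsg.charDegree (χ : G → ℂ)) →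
    (∃ χ : Cfsg.IrrCharacter G, q ∣ Cfsg.charDegree (χ : G → ℂ)) →
    (∃ χ : Cfsg.IrrCharacter G, r ∣ Cfsg.charDegree (χ : G → ℂ)) →
    NoEdge G p q → NoEdge G q r → NoEdge G p r → False := by
  induction n using Nat.strong_induction_on with
  | _ n ih =>
  intro G _ _ _ hn p q r hp hq hr hpq hqr hpr hpd hqd hrd hpq' hqr' hpr'
  haveI := Fact.mk hp
  haveI := Fact.mk hq
  haveI := Fact.mk hr
  rcases subsingleton_or_nontrivial G with hs | hnt
  · exact false_of_abelian_normal (⊤ : Subgroup G) (fun a _ b _ => Subsingleton.elim _ _)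
      (by rw [Subgroup.index_top]; exact hp.not_dvd_one) hpd
  obtain ⟨N, l, d, hN, hlp, hd, hpg, hcard, hN1, hab, hmin⟩ :=
    CfsgLib.Solvable.exists_normal_prime_pow_card (G := G)
  haveI := hN
  haveI := Fact.mk hlp
  have hexp : ∀ x ∈ N, x ^ l = 1 := by
    obtain ⟨l', hl', h⟩ := CfsgLib.Solvable.exists_prime_pow_eq_one_of_minimal_normal N hN1 hmin
      inferInstance
    have : Nontrivial N := N.nontrivial_iff_ne_bot.2 hN1
    obtain ⟨x, hx⟩ := exists_ne (1 : N)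
    obtain ⟨k, hk⟩ := hpg x
    have h1 : orderOf x ∣ l' := orderOf_dvd_of_pow_eq_one (Subtype.ext (h x x.2))
    have h2 : orderOf x ∣ l ^ k := orderOf_dvd_of_pow_eq_one hk
    rcases (Nat.dvd_prime hl').1 h1 with e | e
    · exact absurd (orderOf_eq_one_iff.1 e) hx
    · obtain rfl := (Nat.prime_dvd_prime_iff_eq hl' hlp).1 (hl'.dvd_of_dvd_pow (e ▸ h2))
      exact h
  haveI : Group.IsSolvable (G ⧸ N) :=
    Group.isSolvable_of_surjective (QuotientGroup.mk'_surjective N)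
  by_cases hall : (∃ χ : Cfsg.IrrCharacter (G ⧸ N), p ∣ Cfsg.charDegree (χ : G ⧸ N → ℂ)) ∧
      (∃ χ : Cfsg.IrrCharacter (G ⧸ N), q ∣ Cfsg.charDegree (χ : G ⧸ N → ℂ)) ∧
      (∃ χ : Cfsg.IrrCharacter (G ⧸ N), r ∣ Cfsg.charDegree (χ : G ⧸ N → ℂ))
  · obtain ⟨h1, h2, h3⟩ := hall
    exact ih _ (hn ▸ CfsgLib.Solvable.card_quotient_lt N hN1) (G ⧸ N) rfl p q r hp hq hr hpq hqr hpr
      h1 h2 h3 (hpq'.of_surjective _ (QuotientGroup.mk'_surjective N))
      (hqr'.of_surjective _ (QuotientGroup.mk'_surjective N))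
      (hpr'.of_surjective _ (QuotientGroup.mk'_surjective N))
  simp only [not_and_or, not_exists] at hall
  rcases hall with h | h | h
  · exact false_of_quotient N hab hexp hcard hd hmin hpq hpr hqr h hpd hqd hrd hpq' hpr' hqr'
  · exact false_of_quotient N hab hexp hcard hd hmin hpq.symm hqr hpr h hqd hpd hrd hpq'.symm hqr'
      hpr'
  · exact false_of_quotient N hab hexp hcard hd hmin hpr.symm hqr.symm hpq h hrd hpd hqd
      hpr'.symm hqr'.symm hpq'

end CfsgLib.ThreePrimes
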