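import Cfsg.Agent.Lib.ThreePrimes.Count
import Cfsg.Agent.Lib.Recognition.Zsigmondy

/-!
# No module partitioned by the fixed spaces of Sylow subgroups for two primes

A faithful irreducible module of a solvable group whose non-trivial vectors are each fixed by
exactly one Sylow `q`-subgroup and exactly one Sylow `r`-subgroup (`q ≠ r` divisors of the order)
forces a degree divisible by `q` and `r`.
-/

set_option autoImplicit false

open scoped Classical

namespace CfsgLib.ThreePrimes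

open Cfsg

universe u v

variable {X : Type u} [Group X] [Finite X] [Group.IsSolvable X] {V : Type v} [CommGroup V] [Finite V]
  {l d : ℕ} [hl : Fact l.Prime] (φ : X →* MulAut V)

/-- The hypotheses for one prime. -/
structure Part (q : ℕ) : Prop where
  dvd : q ∣ Nat.card X
  unique : ∀ v : V, v ≠ 1 → ∃! Q : Sylow q X, v ∈ fixSub φ (Q : Subgroup X)

/-- The setting. -/
structure Setting (d q r : ℕ) : Prop where
  inj : Function.Injective φ
  exp : ∀ a : V, a ^ l = 1
  card : Nat.card V = l ^ d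
  pos : 0 < d
  irr : ∀ U : Subgroup V, (∀ g, ∀ v ∈ U, φ g v ∈ U) → U = ⊥ ∨ U = ⊤
  hq : Part φ q
  hr : Part φ r
  deg : ∀ χ : Cfsg.IrrCharacter X,
    ¬ (q ∣ Cfsg.charDegree (χ : X → ℂ) ∧ r ∣ Cfsg.charDegree (χ : X → ℂ))

variable {q r : ℕ} [hq : Fact q.Prime] [hr : Fact r.Prime]

omit hl in
theorem mem_normalizer_pCore (t : ℕ) (g : X) :
    g ∈ Subgroup.normalizer (pCore t X : Set X) := by
  haveI : (pCore t X).Normal := Subgroup.sSup_normal _ fun N hN => hN.1
  rw [Subgroup.normalizer_eq_top]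
  exact Subgroup.mem_top g

theorem Setting.core_l (h : Setting φ (l := l) d q r) : pCore l X = ⊥ :=
  pCore_char_eq_bot φ h.inj h.card h.pos h.irr

omit hr in
/-- The prime is at most one more than the dimension. -/
theorem Part.le_succ (hp : Part φ q) (hφ : Function.Injective φ) (hexp : ∀ a : V, a ^ l = 1)
    (hcard : Nat.card V = l ^ d) (hl0 : pCore l X = ⊥) : q ≤ d + 1 := by
  by_contra hlt
  obtain ⟨g, hg⟩ := exists_prime_orderOf_dvd_card' q hp.dvd
  have hO := pCore_eq_bot φ hφ hp.unique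
  have h1 : g ∈ pCore q X := by
    refine CfsgLib.PGroup.ConjAb.mem_pCore_of_mem_fitting hq.out (n := 1)
      (mem_fitting_of_centralizes_cores fun t ht => Subgroup.mem_centralizer_iff.2 fun a ha => ?_)
      (by rw [hg, pow_one])
    haveI := Fact.mk ht
    rcases eq_or_ne t q with rfl | htq
    · rw [hO] at ha
      rw [Subgroup.mem_bot.1 ha, one_mul, mul_one]
    rcases eq_or_ne t l with rfl | htl
    · rw [hl0] at ha
      rw [Subgroup.mem_bot.1 ha, one_mul, mul_one]
    exact (commute_of_large φ hφ hexp hcard (by omega) htq htl _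
      (CfsgLib.Cores.isPGroup_pCore t) (hg ▸ pow_orderOf_eq_one g) (mem_normalizer_pCore t g)
      a ha).symm.eq
  rw [hO, Subgroup.mem_bot] at h1
  rw [h1, orderOf_one] at hg
  exact hq.out.ne_one hg.symm

omit hr in
theorem Part.dvd_index (hp : Part φ q) (hφ : Function.Injective φ) :
    q ∣ (fittingSubgroup X).index := by
  have hnd : ¬ q ∣ Nat.card (fittingSubgroup X) := fun hdvd => by
    obtain ⟨f, hf⟩ := exists_prime_orderOf_dvd_card' q hdvd
    have h1 := CfsgLib.PGroup.ConjAb.mem_pCore_of_mem_fitting hq.out f.2 (n := 1)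
      (by rw [Subgroup.orderOf_coe, hf, pow_one])
    rw [pCore_eq_bot φ hφ hp.unique, Subgroup.mem_bot] at h1
    rw [← Subgroup.orderOf_coe, h1, orderOf_one] at hf
    exact hq.out.ne_one hf.symm
  exact (hq.out.dvd_mul.1 ((fittingSubgroup X).card_mul_index ▸ hp.dvd)).resolve_left hnd

/-- An element of primitive prime divisor order moves some core. -/
theorem Setting.moved (h : Setting φ (l := l) d q r) (hqr : q ≠ r) {z : ℕ} [hz : Fact z.Prime]
    (hzd : z ∣ l ^ d - 1) (hzi : ∀ i, 1 ≤ i → i < d → ¬ z ∣ l ^ i - 1) {x : X} (hx : orderOf x = z) :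
    ∃ t : ℕ, t.Prime ∧ t ≠ l ∧ ∃ a ∈ pCore t X, a * x ≠ x * a := by
  by_contra hcon
  push Not at hcon
  obtain ⟨χ, hχ⟩ := exists_degree_index_fitting φ h.inj h.card hzd hzi hx fun t ht =>
    Subgroup.mem_centralizer_iff.2 fun a ha => by
      by_cases htl : t = l
      · subst htl
        rw [h.core_l, SetLike.mem_coe, Subgroup.mem_bot] at ha
        rw [ha, one_mul, mul_one]
      · exact hcon t ht htl a ha
  exact h.deg χ ⟨(h.hq.dvd_index φ h.inj).trans hχ, (h.hr.dvd_index φ h.inj).trans hχ⟩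

/-- A primitive prime divisor is one more than a power of `2`, equal to the dimension. -/
theorem Setting.primitive (h : Setting φ (l := l) d q r) (hqr : q ≠ r) (hd : 2 ≤ d) {z : ℕ}
    (hz : z.Prime) (hzd : z ∣ l ^ d - 1) (hzi : ∀ i, 1 ≤ i → i < d → ¬ z ∣ l ^ i - 1) :
    z ≠ q ∧ z ≠ r ∧ l ≠ 2 ∧ pCore 2 X ≠ ⊥ ∧ ¬ z ^ 2 ∣ l ^ d - 1 ∧
      ∃ e, d = 2 ^ e ∧ z = d + 1 := by
  haveI := Fact.mk hz
  have h1l : 1 ≤ l ^ d := Nat.one_le_pow _ _ hl.out.pos
  have hzl : z ≠ l := by
    intro e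
    subst e
    have h2 := Nat.dvd_sub (dvd_pow_self z h.pos.ne') hzd
    rw [Nat.sub_sub_self h1l, Nat.dvd_one] at h2
    exact hz.ne_one h2
  have hdz : d < z := by
    have ha : (l : ZMod z) ≠ 0 := fun e => hzl
      ((Nat.prime_dvd_prime_iff_eq hz hl.out).1 ((ZMod.natCast_eq_zero_iff l z).1 e))
    have hd1 : orderOf (l : ZMod z) = d := by
      rw [orderOf_eq_iff (by omega)]
      refine ⟨?_, fun i hi hi0 e => hzi i hi0 hi ?_⟩
      · have := (ZMod.natCast_eq_zero_iff (l ^ d - 1) z).2 hzd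
        rw [Nat.cast_sub h1l, sub_eq_zero] at this
        simpa using this
      · refine (ZMod.natCast_eq_zero_iff (l ^ i - 1) z).1 ?_
        rw [Nat.cast_sub (Nat.one_le_pow _ _ hl.out.pos), sub_eq_zero]
        simpa using e
    have h2 := Nat.le_of_dvd (by have := hz.two_le; omega) (hd1 ▸ ZMod.orderOf_dvd_card_sub_one ha)
    omega
  have hcount : ∀ {s : ℕ}, s.Prime → Part φ s →
      ∃ n, n ∣ Nat.card X ∧ n % s = 1 ∧ z ∣ n ∧ ∀ k, z ^ k ∣ l ^ d - 1 → z ^ k ∣ n := by
    intro s hs hp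
    haveI := Fact.mk hs
    obtain ⟨w, hw0, hwd, hn, -, hnX, hn1⟩ := sylow_count φ h.inj h.card h.pos hp.dvd hp.unique
    have key : ∀ k, z ^ k ∣ l ^ d - 1 → z ^ k ∣ Nat.card (Sylow s X) := fun k hk =>
      (Nat.Coprime.pow_left k (hz.coprime_iff_not_dvd.2 (hzi w hw0 hwd))).dvd_of_dvd_mul_right
        (hn ▸ hk)
    exact ⟨_, hnX, hn1, by simpa using key 1 (by simpa using hzd), key⟩
  obtain ⟨nq, hnqX, hnq1, hznq, hkey⟩ := hcount hq.out h.hq
  obtain ⟨nr, -, hnr1, hznr, -⟩ := hcount hr.out h.hr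
  have hzq : z ≠ q := fun e => by
    rw [← e, Nat.mod_eq_zero_of_dvd hznq] at hnq1
    exact zero_ne_one hnq1
  have hzr : z ≠ r := fun e => by
    rw [← e, Nat.mod_eq_zero_of_dvd hznr] at hnr1
    exact zero_ne_one hnr1
  have hz2 : z ≠ 2 := by omega
  obtain ⟨P⟩ := (inferInstance : Nonempty (Sylow z X))
  haveI : Nontrivial (P : Subgroup X) :=
    (Subgroup.nontrivial_iff_ne_bot _).2 (P.ne_bot_of_dvd_card (hznq.trans hnqX))
  haveI := P.2.center_nontrivial
  obtain ⟨c, hc⟩ := exists_prime_orderOf_dvd_card' (G := Subgroup.center (P : Subgroup X)) z (by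
    obtain ⟨k, hk⟩ := IsPGroup.iff_card.1 (P.2.to_subgroup (Subgroup.center (P : Subgroup X)))
    rcases k with _ | k
    · exact absurd hk (by rw [pow_zero]; exact Finite.one_lt_card.ne')
    · exact ⟨z ^ k, by rw [hk, pow_succ']⟩)
  set x : X := ((c : (P : Subgroup X)) : X) with hxdef
  have hx : orderOf x = z := by rw [hxdef, Subgroup.orderOf_coe, Subgroup.orderOf_coe, hc]
  have hPx : (P : Subgroup X) ≤ Subgroup.centralizer ({x} : Set X) := fun g hg =>
    Subgroup.mem_centralizer_singleton_iff.2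
      (congrArg Subtype.val (Subgroup.mem_center_iff.1 c.2 ⟨g, hg⟩))
  -- a moved core
  have hmove : ∀ {y : X} {n : ℕ}, 0 < n → y ^ (z ^ n) = 1 → orderOf (y ^ (z ^ (n - 1))) = z →
      y ^ (z ^ (n - 1)) ∈ (P : Subgroup X) →
      ∃ m e, 0 < m ∧ m ≤ n ∧ pCore 2 X ≠ ⊥ ∧ l ≠ 2 ∧ z ^ m = 2 ^ e + 1 ∧
        z ^ (n - m) * 2 ^ e ≤ d := by
    intro y n hn hy ho hyP
    obtain ⟨t, ht, htl, a, ha, hna⟩ := h.moved φ hqr hzd hzi ho
    haveI := Fact.mk ht
    have htz : t ≠ z := fun e => hna (by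
      subst e
      haveI := isCyclic_centralizer φ h.inj h.card hzd hzi hx
      haveI : IsCyclic (P : Subgroup X) :=
        isCyclic_of_injective (Subgroup.inclusion hPx) (Subgroup.inclusion_injective hPx)
      exact congrArg Subtype.val (IsMulCommutative.is_comm.comm
        (⟨a, CfsgLib.Cores.pCore_le_sylow P ha⟩ : (P : Subgroup X)) ⟨_, hyP⟩))
    rcases commute_or_exceptional φ h.inj h.exp h.card (n := n) hz2 htz htl hzl
      (lt_of_lt_of_le hdz (Nat.le_self_pow hn.ne' z)) _ (CfsgLib.Cores.isPGroup_pCore t) hy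
      (mem_normalizer_pCore t y) with h1 | ⟨ht2, m, e, hm, hmn, he, hle⟩
    · exact absurd (h1 a ha).symm.eq hna
    · subst ht2
      exact ⟨m, e, hm, hmn, fun e0 => hna (by
        rw [e0, Subgroup.mem_bot] at ha
        rw [ha, one_mul, mul_one]), htl.symm, he, hle⟩
  obtain ⟨m, e, hm, hm1, hT, hl2, he, hle⟩ := hmove (y := x) (n := 1) one_pos
    (by rw [pow_one, ← hx, pow_orderOf_eq_one]) (by rw [Nat.sub_self, pow_zero, pow_one, hx])
    (by rw [Nat.sub_self, pow_zero, pow_one]; exact (c : (P : Subgroup X)).2)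
  obtain rfl : m = 1 := by omega
  rw [Nat.sub_self, pow_zero, one_mul] at hle
  rw [pow_one] at he
  refine ⟨hzq, hzr, hl2, hT, fun hz2d => ?_, e, by omega, by omega⟩
  haveI := isCyclic_centralizer φ h.inj h.card hzd hzi hx
  haveI : IsCyclic (P : Subgroup X) :=
    isCyclic_of_injective (Subgroup.inclusion hPx) (Subgroup.inclusion_injective hPx)
  obtain ⟨g, hg⟩ := IsCyclic.exists_ofOrder_eq_natCard (α := (P : Subgroup X))
  have hP2 : z ^ 2 ∣ orderOf g := by
    rw [hg, P.card_eq_multiplicity]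
    exact pow_dvd_pow _ ((hz.pow_dvd_iff_le_factorization Nat.card_pos.ne').1
      ((hkey 2 hz2d).trans hnqX))
  have hy : orderOf (g ^ (orderOf g / z ^ 2)) = z ^ 2 :=
    orderOf_pow_orderOf_div (orderOf_pos g).ne' hP2
  set y := g ^ (orderOf g / z ^ 2)
  obtain ⟨m, e', hm, hm2, -, -, he', hle'⟩ := hmove (y := (y : X)) (n := 2) two_pos
    (by rw [← hy, ← Subgroup.orderOf_coe, pow_orderOf_eq_one])
    (by
      rw [show 2 - 1 = 1 from rfl, pow_one, orderOf_pow_of_dvd hz.ne_zero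
        (by rw [Subgroup.orderOf_coe, hy, pow_two]; exact dvd_mul_right z z),
        Subgroup.orderOf_coe, hy, pow_two, Nat.mul_div_cancel _ hz.pos])
    ((P : Subgroup X).pow_mem y.2 _)
  have h3 : 0 < 2 ^ e' := Nat.two_pow_pos e'
  interval_cases m
  · rw [show 2 - 1 = 1 from rfl, pow_one] at hle'
    nlinarith
  · rw [show 2 - 2 = 0 from rfl, pow_zero, one_mul] at hle'
    nlinarith [hz.two_le]

end CfsgLib.ThreePrimes
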