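import Cfsg.Agent.Lib.ThreePrimes.CaseA

/-!
# Commutator forms into a central subgroup

`S` has its commutators in the central subgroup `N`. If `Q` fixes every non-linear character of `S`
and centralises `N` then the linear characters of `S` moved by `Q` outnumber those of `N`:
the index of the fixed ones exceeds the order of `N`.
-/

set_option autoImplicit false

open scoped Classical commutatorElement

namespace CfsgLib.ThreePrimes

open Cfsg CfsgLib.Char CfsgLib.CharNormal CfsgLib.ThreeDeg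

universe u

variable {G : Type u} [Group G] [Finite G] {S N : Subgroup G}
  (hcomm : ∀ a ∈ S, ∀ b ∈ S, ⁅a, b⁆ ∈ N) (hcen : ∀ x ∈ S, ∀ n ∈ N, n * x = x * n)

/-- The commutator with a fixed element. -/
def commMap (u : S) : S →* N where
  toFun x := ⟨⁅(u : G), (x : G)⁆, hcomm u u.2 x x.2⟩
  map_one' := Subtype.ext (commutatorElement_one_right _)
  map_mul' x y := Subtype.ext <| by
    show ⁅(u : G), (x : G) * y⁆ = ⁅(u : G), (x : G)⁆ * ⁅(u : G), (y : G)⁆
    rw [show ⁅(u : G), (x : G) * y⁆ =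
      ⁅(u : G), (x : G)⁆ * ((x : G) * ⁅(u : G), (y : G)⁆ * (x : G)⁻¹) by
        simp only [commutatorElement_def]; group,
      ← hcen x x.2 _ (hcomm u u.2 y y.2), mul_inv_cancel_right]

omit [Finite G] in
theorem coe_commMap (u x : S) : (commMap hcomm hcen u x : G) = ⁅(u : G), (x : G)⁆ := rfl

omit [Finite G] in
theorem commMap_mul_left (a b x : S) :
    commMap hcomm hcen (a * b) x = commMap hcomm hcen a x * commMap hcomm hcen b x := by
  apply Subtype.ext
  rw [Subgroup.coe_mul, coe_commMap, coe_commMap, coe_commMap, Subgroup.coe_mul,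
    show ⁅(a : G) * b, (x : G)⁆ = (a : G) * ⁅(b : G), (x : G)⁆ * (a : G)⁻¹ * ⁅(a : G), (x : G)⁆ by
      simp only [commutatorElement_def]; group,
    ← hcen a a.2 _ (hcomm b b.2 x x.2), mul_inv_cancel_right,
    hcen _ (show ⁅(a : G), (x : G)⁆ ∈ S by
      rw [commutatorElement_def]
      exact mul_mem (mul_mem (mul_mem a.2 x.2) (inv_mem a.2)) (inv_mem x.2))
      _ (hcomm b b.2 x x.2)]

omit [Finite G] in
theorem commMap_self (u : S) : commMap hcomm hcen u u = 1 :=
  Subtype.ext (by rw [coe_commMap, commutatorElement_self]; rfl)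

include hcen in
/-- A character over `f` does not vanish on the radical of `f`. -/
theorem ne_zero_of_radical (hNS : N ≤ S) {θ : S → ℂ} (hθ : Cfsg.IsIrrCharacter S θ) (f : N →* ℂˣ)
    (hθf : ∀ n : N, θ ⟨n, hNS n.2⟩ = θ 1 * (f n : ℂ)) (u : S)
    (hu : ∀ x : S, f (commMap hcomm hcen u x) = 1) : θ u ≠ 0 := by
  obtain ⟨k, ρ, hirr, rfl⟩ := hθ
  have h1 : ρ.character 1 ≠ 0 := irr_one_ne_zero ⟨k, ρ, hirr, rfl⟩
  haveI := hirr
  have htr : ∀ (g : S) (c : ℂ), ρ g = c • LinearMap.id → ρ.character g = c * ρ.character 1 := by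
    intro g c hc
    rw [Representation.char_one, Representation.character, hc, map_smul, LinearMap.trace_id,
      smul_eq_mul]
  have hsc : ∀ n : N, ρ ⟨n, hNS n.2⟩ = (f n : ℂ) • LinearMap.id := by
    intro n
    obtain ⟨c, hc⟩ := exists_eq_smul_id ρ (ρ ⟨n, hNS n.2⟩) fun g => by
      rw [← Module.End.mul_eq_comp, ← Module.End.mul_eq_comp, ← map_mul, ← map_mul]
      congr 1
      exact Subtype.ext (hcen g g.2 n n.2)
    have h2 := (htr _ c hc).symm.trans (hθf n)
    rw [mul_comm] at h2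
    rw [hc, mul_left_cancel₀ h1 h2]
  obtain ⟨c, hc⟩ := exists_eq_smul_id ρ (ρ u) fun g => by
    rw [← Module.End.mul_eq_comp, ← Module.End.mul_eq_comp, ← map_mul, ← map_mul,
      show u * g = ⟨(commMap hcomm hcen u g : G), hNS (commMap hcomm hcen u g).2⟩ * (g * u) from
        Subtype.ext (show (u : G) * g = ⁅(u : G), (g : G)⁆ * ((g : G) * u) by
          simp only [commutatorElement_def]; group),
      map_mul, hsc, hu g, Units.val_one, one_smul, ← Module.End.one_eq_id, one_mul]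
  rw [htr u c hc]
  refine mul_ne_zero (fun h0 => h1 ?_) h1
  rw [h0, zero_smul] at hc
  have h3 : ρ 1 = 0 := by rw [← mul_inv_cancel u, map_mul, hc, zero_mul]
  rw [Representation.character, h3, map_zero]

include hcomm hcen in
/-- The index of the fixed linear characters exceeds the number of those of `N`. -/
theorem card_dual_lt_index [S.Normal] (hNS : N ≤ S) {H : Subgroup G} (Q : Subgroup H)
    (hQN : ∀ h ∈ Q, (h : G) ∈ Subgroup.centralizer (N : Set G))
    (hQS : (Nat.card Q).Coprime (Nat.card S))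
    (hA : fixSub ((dualAct S).comp H.subtype) Q ≠ ⊤)
    (hinv : ∀ θ : Cfsg.IrrCharacter S, (θ : S → ℂ) 1 ≠ 1 →
      Q ≤ (inertia S (θ : S → ℂ)).comap H.subtype)
    (hover : ∀ f : N →* ℂˣ, f ≠ 1 → ∃ θ : Cfsg.IrrCharacter S, (θ : S → ℂ) 1 ≠ 1 ∧
      ∀ n : N, (θ : S → ℂ) ⟨n, hNS n.2⟩ = (θ : S → ℂ) 1 * (f n : ℂ)) :
    Nat.card (N →* ℂˣ) < (fixSub ((dualAct S).comp H.subtype) Q).index := by
  haveI : Finite (S →* ℂˣ) := finite_dual
  haveI := Fintype.ofFinite S
  set ψ := (dualAct S).comp H.subtype with hψ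
  set A := fixSub ψ Q with hAdef
  have hψa : ∀ (h : H) (μ : S →* ℂˣ) (x : S),
      ψ h μ x = μ ((MulAut.conjNormal (h : G)⁻¹ : MulAut S) x) := fun _ _ _ => rfl
  -- a point killed by the fixed characters and fixed by `Q` is killed by all
  have key : ∀ v : S, (∀ μ ∈ A, μ v = 1) → (∀ h ∈ Q, ∀ μ : S →* ℂˣ, ψ h μ v = μ v) →
      ∀ μ : S →* ℂˣ, μ v = 1 := by
    intro v hvA hvQ μ
    haveI := Fintype.ofFinite Q
    have hmem : (∏ h : Q, ψ h μ) ∈ A := fun g hg => by
      rw [map_prod]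
      refine Fintype.prod_equiv (Equiv.mulLeft (⟨g, hg⟩ : Q)) _ _ fun h => ?_
      rw [← MulAut.mul_apply, ← map_mul]
      rfl
    have h1 := hvA _ hmem
    rw [MonoidHom.finsetProd_apply, Finset.prod_congr rfl fun (h : Q) _ => hvQ (h : H) h.2 μ,
      Finset.prod_const, Finset.card_univ, ← Nat.card_eq_fintype_card] at h1
    have h2 : μ v ^ Nat.card S = 1 := by rw [← map_pow, pow_card_eq_one', map_one]
    exact orderOf_eq_one_iff.1 (Nat.eq_one_of_dvd_coprimes hQS (orderOf_dvd_of_pow_eq_one h1)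
      (orderOf_dvd_of_pow_eq_one h2))
  -- `u`
  obtain ⟨μ₀, hμ₀⟩ : ∃ μ, μ ∉ A := by
    by_contra h
    push Not at h
    exact hA (eq_top_iff.2 fun μ _ => h μ)
  obtain ⟨h₀, hh₀, hne⟩ : ∃ h ∈ Q, ψ h μ₀ ≠ μ₀ := by
    by_contra h
    push Not at h
    exact hμ₀ h
  obtain ⟨x₀, hx₀⟩ : ∃ x, ψ h₀ μ₀ x ≠ μ₀ x := by
    by_contra h
    push Not at h
    exact hne (MonoidHom.ext h)
  set u : S := (MulAut.conjNormal (h₀ : G)⁻¹ : MulAut S) x₀ * x₀⁻¹ with hu
  have huA : ∀ μ ∈ A, μ u = 1 := fun μ hμ => by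
    rw [hu, map_mul, ← hψa, hμ h₀ hh₀, map_inv, mul_inv_cancel]
  have huμ : μ₀ u ≠ 1 := fun h => hx₀ (by
    rwa [hu, map_mul, ← hψa, map_inv, mul_inv_eq_one] at h)
  -- the map
  set Φ : (N →* ℂˣ) →* (S →* ℂˣ) := MonoidHom.compHom' (commMap hcomm hcen u) with hΦ
  have hΦa : ∀ f x, Φ f x = f (commMap hcomm hcen u x) := fun _ _ => rfl
  have hΦA : ∀ f : N →* ℂˣ, Φ f ∈ A → f = 1 := by
    intro f hf
    by_contra hf1
    obtain ⟨θ, hθ1, hθf⟩ := hover f hf1
    refine huμ (key u huA (fun h hh μ => ?_) μ₀)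
    set v : S := (MulAut.conjNormal (h : G)⁻¹ : MulAut S) u * u⁻¹ with hv
    have hvf : ∀ x : S, f (commMap hcomm hcen v x) = 1 := by
      intro x
      have e1 : commMap hcomm hcen ((MulAut.conjNormal (h : G)⁻¹ : MulAut S) u) x =
          commMap hcomm hcen u ((MulAut.conjNormal (h : G) : MulAut S) x) := by
        apply Subtype.ext
        rw [coe_commMap, coe_commMap, MulAut.conjNormal_apply, MulAut.conjNormal_apply, inv_inv]
        have hn := hcomm u u.2 _ (‹S.Normal›.conj_mem x x.2 (h : G))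
        rw [show ⁅(h : G)⁻¹ * u * h, (x : G)⁆ =
            (h : G)⁻¹ * ⁅(u : G), (h : G) * x * (h : G)⁻¹⁆ * h by
          simp only [commutatorElement_def]; group,
          mul_assoc, Subgroup.mem_centralizer_iff.1 (hQN h hh) _ hn, inv_mul_cancel_left]
      have e2 : f (commMap hcomm hcen ((MulAut.conjNormal (h : G)⁻¹ : MulAut S) u) x) =
          f (commMap hcomm hcen u x) := by
        rw [e1, ← hΦa, ← hΦa]
        have := DFunLike.congr_fun (hf h⁻¹ (inv_mem hh)) x
        rw [hψa, Subgroup.coe_inv, inv_inv] at this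
        exact this
      have e3 : v * u = (MulAut.conjNormal (h : G)⁻¹ : MulAut S) u := inv_mul_cancel_right _ _
      rw [← e3, commMap_mul_left, map_mul, mul_eq_right] at e2
      exact e2
    have hvQ : ∀ h' ∈ Q, ∀ ν : S →* ℂˣ, ψ h' ν v = ν v := by
      intro h' hh' ν
      have hfix : ∀ θ' : Cfsg.IrrCharacter S, (θ' : S → ℂ) 1 ≠ 1 →
          (θ' : S → ℂ) ((MulAut.conjNormal (h' : G)⁻¹ : MulAut S) v) = (θ' : S → ℂ) v := by
        intro θ' h1'
        have := (mem_inertia S).1 (hinv θ' h1' (inv_mem hh'))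
        rw [conjFun_eq_comp] at this
        exact congrFun this v
      have hi : Cfsg.IsIrrCharacter S ((θ : S → ℂ) * linFun ν) :=
        isIrr_mul_linear θ.2 (isCharacter_linFun ν).1 (isCharacter_linFun ν).2
      have h2 := hfix ⟨_, hi⟩ (by simpa [linFun_apply] using hθ1)
      simp only [Pi.mul_apply, linFun_apply, hfix θ hθ1] at h2
      exact Units.ext (mul_left_cancel₀
        (ne_zero_of_radical hcomm hcen hNS θ.2 f hθf v hvf) h2)
    have hvA : ∀ ν ∈ A, ν v = 1 := fun ν hν => by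
      rw [hv, map_mul, ← hψa, hν h hh, map_inv, mul_inv_cancel]
    have hv1 := key v hvA hvQ μ
    rwa [hv, map_mul, ← hψa, map_inv, mul_inv_eq_one] at hv1
  -- comparing
  haveI : Finite (N →* ℂˣ) := finite_dual
  haveI : A.Normal := ⟨fun a ha g => by
    have e : g * a * g⁻¹ = a := mul_inv_cancel_comm g a
    exact e.symm ▸ ha⟩
  let g : (N →* ℂˣ) →* (S →* ℂˣ) ⧸ A := (QuotientGroup.mk' A).comp Φ
  have hinj : Function.Injective g := (injective_iff_map_eq_one g).2 fun f hf =>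
    hΦA f ((QuotientGroup.eq_one_iff _).1 hf)
  have hsurj : ¬ Function.Surjective g := fun hs => by
    obtain ⟨f, hf⟩ := hs (μ₀ : (S →* ℂˣ) ⧸ A)
    have h1 := huA _ (QuotientGroup.eq.1 hf)
    rw [MonoidHom.mul_apply, MonoidHom.inv_apply, hΦa, commMap_self, map_one, inv_one,
      one_mul] at h1
    exact huμ h1
  rw [Subgroup.index_eq_card]
  exact lt_of_le_of_ne (Nat.card_le_card_of_injective g hinj) fun e =>
    hsurj ((Nat.bijective_iff_injective_and_card g).2 ⟨hinj, e⟩).2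

end CfsgLib.ThreePrimes
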