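import Cfsg.Agent.Lib.ThreePrimes.Irreducible
import Cfsg.Agent.Lib.ThreePrimes.Degree

/-!
# An element of primitive prime divisor order centralising the Fitting subgroup

Then the Fitting subgroup is cyclic and self-centralising, so some degree is divisible by its
index.
-/

set_option autoImplicit false

open scoped Classical

namespace CfsgLib.ThreePrimes

open Cfsg CfsgLib.CharNormal CfsgLib.Char

universe u v

variable {X : Type u} [Group X] [Finite X] [Group.IsSolvable X] {V : Type v} [CommGroup V] [Finite V]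
  {l d z : ℕ} [hl : Fact l.Prime] [hz : Fact z.Prime] (φ : X →* MulAut V)

/-- Elements centralising all cores of a solvable group lie in the Fitting subgroup. -/
theorem mem_fitting_of_centralizes_cores {x : X}
    (h : ∀ t : ℕ, t.Prime → x ∈ Subgroup.centralizer (pCore t X : Set X)) :
    x ∈ fittingSubgroup X :=
  CfsgLib.Solvable.centralizer_fittingSubgroup_le (CfsgLib.PGroup.ConjAb.le_centralizer_fitting h)

/-- A degree divisible by the index of the Fitting subgroup. -/
theorem exists_degree_index_fitting (hφ : Function.Injective φ) (hcard : Nat.card V = l ^ d)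
    (hzd : z ∣ l ^ d - 1) (hzi : ∀ i, 1 ≤ i → i < d → ¬ z ∣ l ^ i - 1)
    {x : X} (hx : orderOf x = z)
    (hc : ∀ t : ℕ, t.Prime → x ∈ Subgroup.centralizer (pCore t X : Set X)) :
    ∃ χ : Cfsg.IrrCharacter X, (fittingSubgroup X).index ∣ Cfsg.charDegree (χ : X → ℂ) := by
  letI := Fintype.ofFinite X
  set F := fittingSubgroup X with hF
  haveI hFn : F.Normal := CfsgLib.Cores.fittingSubgroup_normal
  letI := Fintype.ofFinite F
  haveI := isCyclic_centralizer φ hφ hcard hzd hzi hx
  have hxF : x ∈ Subgroup.centralizer (F : Set X) := CfsgLib.PGroup.ConjAb.le_centralizer_fitting hc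
  have hFC : F ≤ Subgroup.centralizer ({x} : Set X) := fun f hf =>
    Subgroup.mem_centralizer_singleton_iff.2 (Subgroup.mem_centralizer_iff.1 hxF f hf)
  haveI hcyc : IsCyclic F :=
    isCyclic_of_injective (Subgroup.inclusion hFC) (Subgroup.inclusion_injective hFC)
  haveI : NeZero (Nat.card F : ℂ) := ⟨Nat.cast_ne_zero.2 Nat.card_pos.ne'⟩
  haveI : NeZero (Nat.card F) := ⟨Nat.card_pos.ne'⟩
  let e : F ≃* rootsOfUnity (Nat.card F) ℂ := mulEquivOfCyclicCardEq
    (HasEnoughRootsOfUnity.natCard_rootsOfUnity ℂ (Nat.card F)).symm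
  let μ : F →* ℂˣ := (rootsOfUnity (Nat.card F) ℂ).subtype.comp e.toMonoidHom
  have hμ : Function.Injective μ := Subtype.val_injective.comp e.injective
  let θ : Cfsg.IrrCharacter F := ⟨fun a => (μ a : ℂ), isIrrCharacter_units_hom μ⟩
  obtain ⟨χ, hχ⟩ := exists_degree_over F θ
  refine ⟨χ, dvd_trans ?_ hχ⟩
  refine dvd_mul_of_dvd_left (Subgroup.index_dvd_of_le fun g hg => ?_) _
  refine CfsgLib.Solvable.centralizer_fittingSubgroup_le (Subgroup.mem_centralizer_iff.2 fun f hf => ?_)
  have h1 := congrFun ((mem_inertia F).1 hg) ⟨f, hf⟩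
  rw [conjFun_apply] at h1
  have h2 := congrArg Subtype.val (hμ (Units.ext h1))
  change g * f * g⁻¹ = f at h2
  exact (mul_inv_eq_iff_eq_mul.1 h2).symm

end CfsgLib.ThreePrimes
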